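import Mathlib

/-! Free actions of finite groups on rings: the invariants have an étale extension. -/

set_option autoImplicit false
universe u
open scoped TensorProduct

noncomputable section

namespace Groth.Agent.QuotLib

variable {A B : Type u} [CommRing A] [CommRing B] [Algebra A B] {G : Type u} [Group G] [Finite G]
  [MulSemiringAction G B] [SMulCommClass G A B]

/-- `b ⊗ c ↦ b * g c`. -/
def mulTwist (g : G) : B ⊗[A] B →ₐ[A] B :=
  Algebra.TensorProduct.productMap (AlgHom.id A B) (MulSemiringAction.toAlgHom A B g)

theorem mulTwist_tmul (g : G) (b c : B) : mulTwist (A := A) g (b ⊗ₜ[A] c) = b * g • c := rfl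

theorem exists_separating (hfree : ∀ g : G, g ≠ 1 → Ideal.span (Set.range fun b : B => b - g • b) = ⊤) :
    ∃ u : B ⊗[A] B, mulTwist (1 : G) u = 1 ∧ ∀ g : G, g ≠ 1 → mulTwist g u = 0 := by
  classical
  haveI := Fintype.ofFinite G
  have key : ∀ g : G, g ≠ 1 → ∃ v : B ⊗[A] B, mulTwist (1 : G) v = 1 ∧ mulTwist g v = 0 := by
    intro g hg
    have h1 : (1 : B) ∈ Ideal.span (Set.range fun b : B => b - g • b) := by rw [hfree g hg]; trivial
    clear hfree hg
    revert h1
    generalize (1 : B) = z
    intro h1
    induction h1 using Submodule.span_induction with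
    | mem z hz =>
      obtain ⟨b, rfl⟩ := hz
      exact ⟨1 ⊗ₜ b - (g • b) ⊗ₜ 1, by simp [mulTwist_tmul, smul_one], by simp [mulTwist_tmul, smul_one]⟩
    | zero => exact ⟨0, map_zero _, map_zero _⟩
    | add x y _ _ hx hy =>
      obtain ⟨v, hv, hv'⟩ := hx
      obtain ⟨w, hw, hw'⟩ := hy
      exact ⟨v + w, by rw [map_add, hv, hw], by rw [map_add, hv', hw', add_zero]⟩
    | smul c x _ hx =>
      obtain ⟨v, hv, hv'⟩ := hx
      exact ⟨(c ⊗ₜ 1) * v, by rw [map_mul, hv, mulTwist_tmul]; simp, by rw [map_mul, hv', mul_zero]⟩
  choose v hv1 hvg using key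
  refine ⟨∏ g : {g : G // g ≠ 1}, v g.1 g.2, by simp [map_prod, hv1], fun g hg => ?_⟩
  rw [map_prod]
  exact Finset.prod_eq_zero (Finset.mem_univ ⟨g, hg⟩) (hvg g hg)

/-- A free action with invariants `A`: `B` is finite projective and étale over `A`. -/
theorem finite_projective_etale_of_free [Algebra.IsInvariant A B G] (hinj : Function.Injective (algebraMap A B))
    (hfree : ∀ g : G, g ≠ 1 → Ideal.span (Set.range fun b : B => b - g • b) = ⊤) :
    Module.Finite A B ∧ Module.Projective A B ∧ Algebra.Etale A B := by
  classical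
  haveI := Fintype.ofFinite G
  obtain ⟨u, hu1, hug⟩ := exists_separating (A := A) hfree
  obtain ⟨S, hS⟩ := TensorProduct.exists_finset u
  have hδ : ∀ g : G, ∑ i ∈ S, i.1 * g • i.2 = if g = 1 then 1 else 0 := fun g => by
    have e : mulTwist g u = ∑ i ∈ S, i.1 * g • i.2 := by
      rw [hS, map_sum]; rfl
    rw [← e]
    split_ifs with h
    · subst h; exact hu1
    · exact hug g h
  have htr : ∀ b : B, ∃ a : A, algebraMap A B a = ∑ g : G, g • b := fun b =>
    Algebra.IsInvariant.isInvariant (G := G) _ fun h => by
      rw [Finset.smul_sum]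
      refine Fintype.sum_equiv (Equiv.mulLeft h) _ _ fun g => ?_
      rw [smul_smul]; rfl
  choose t ht using htr
  have hrec : ∀ b : B, ∑ i ∈ S, i.1 * algebraMap A B (t (i.2 * b)) = b := fun b => by
    simp only [ht, Finset.mul_sum, smul_mul', ← mul_assoc]
    rw [Finset.sum_comm]
    simp only [← Finset.sum_mul, hδ, ite_mul, one_mul, zero_mul]
    simp
  let φ : B →ₗ[A] (S → A) :=
    { toFun := fun b i => t (i.1.2 * b)
      map_add' := fun b c => funext fun i => hinj (by
        simp only [Pi.add_apply, map_add, ht, mul_add, smul_add, Finset.sum_add_distrib])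
      map_smul' := fun a b => funext fun i => hinj (by
        simp only [Pi.smul_apply, RingHom.id_apply, smul_eq_mul, map_mul, ht, mul_smul_comm, Finset.mul_sum]
        refine Finset.sum_congr rfl fun g _ => ?_
        rw [smul_comm g a, Algebra.smul_def]) }
  let ψ : (S → A) →ₗ[A] B := Fintype.linearCombination A fun i : S => i.1.1
  have hψφ : ψ ∘ₗ φ = LinearMap.id := LinearMap.ext fun b => by
    show ψ (φ b) = b
    simp only [ψ, φ, Fintype.linearCombination_apply, LinearMap.coe_mk, AddHom.coe_mk, Algebra.smul_def]
    conv_rhs => rw [← hrec b]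
    rw [← Finset.sum_coe_sort S]
    exact Finset.sum_congr rfl fun i _ => mul_comm _ _
  haveI hfin : Module.Finite A B :=
    Module.Finite.of_surjective ψ fun b => ⟨φ b, LinearMap.congr_fun hψφ b⟩
  haveI hproj : Module.Projective A B := Module.Projective.of_split φ ψ hψφ
  haveI : Algebra.FormallyUnramified A B := by
    rw [Algebra.FormallyUnramified.iff_exists_tensorProduct]
    -- `B ⊗ B → ∏ B` is injective
    have hinv : ∀ z : B ⊗[A] B, z = ∑ h : G, (mulTwist h z ⊗ₜ[A] (1 : B)) *
        ∑ i ∈ S, (h • i.1) ⊗ₜ[A] i.2 := by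
      intro z
      induction z using TensorProduct.induction_on with
      | zero => simp
      | add x y hx hy =>
        simp only [map_add, TensorProduct.add_tmul, add_mul, Finset.sum_add_distrib]
        rw [← hx, ← hy]
      | tmul b c =>
        have hsym : ∀ d : B, ∑ i ∈ S, algebraMap A B (t (d * i.1)) * i.2 = d := fun d => by
          simp only [ht, Finset.sum_mul, smul_mul']
          rw [Finset.sum_comm]
          rw [Finset.sum_eq_single_of_mem (1 : G) (Finset.mem_univ _) fun g _ hg => ?_]
          · simp only [one_smul, mul_assoc, ← Finset.mul_sum]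
            have := hδ 1
            simp only [one_smul, if_pos] at this
            rw [this, mul_one]
          · have := congrArg (fun e => g • d * g • e) (hδ g⁻¹)
            simp only [inv_eq_one, hg, if_false, smul_zero, mul_zero, Finset.smul_sum, smul_mul',
              smul_inv_smul, Finset.mul_sum] at this
            rw [← this]
            exact Finset.sum_congr rfl fun i _ => mul_assoc _ _ _
        conv_lhs => rw [← hsym c, TensorProduct.tmul_sum]
        simp only [mulTwist_tmul, Finset.mul_sum, Algebra.TensorProduct.tmul_mul_tmul, one_mul]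
        rw [Finset.sum_comm]
        refine Finset.sum_congr rfl fun i _ => ?_
        rw [← Algebra.smul_def, ← TensorProduct.smul_tmul, Algebra.smul_def, ← TensorProduct.sum_tmul, ht,
          Finset.sum_mul]
        congr 1
        refine Finset.sum_congr rfl fun g _ => ?_
        rw [smul_mul']
        ring
    refine ⟨u, fun s => ?_, ?_⟩
    · rw [hinv ((1 ⊗ₜ s - s ⊗ₜ 1) * u)]
      refine Finset.sum_eq_zero fun h _ => ?_
      have : mulTwist h ((1 ⊗ₜ[A] s - s ⊗ₜ[A] 1) * u) = 0 := by
        rw [map_mul]
        rcases eq_or_ne h 1 with rfl | hh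
        · simp [mulTwist_tmul]
        · rw [hug h hh, mul_zero]
      rw [this, TensorProduct.zero_tmul, zero_mul]
    · rw [← hu1]
      refine DFunLike.congr_fun (Algebra.TensorProduct.ext' fun b c => ?_) u
      rw [Algebra.TensorProduct.lmul'_apply_tmul, mulTwist_tmul, one_smul]
  haveI : Algebra.FinitePresentation A B := by
    haveI : Module.FinitePresentation A B := Module.finitePresentation_of_projective A B
    exact Algebra.FinitePresentation.of_finitePresentation A B
  exact ⟨hfin, hproj, Algebra.Etale.of_formallyUnramified_of_flat⟩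

end Groth.Agent.QuotLib
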