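import Groth.Agent.QuotLib.Geom
import Groth.Agent.QuotLib.FreeAlg

/-! Free actions of finite groups on schemes. -/

set_option autoImplicit false
universe u
open CategoryTheory CategoryTheory.Limits AlgebraicGeometry Opposite TopologicalSpace

noncomputable section

namespace Groth.Agent.QuotLib

theorem exists_alg_closed_hom (k : Type u) [Field k] : ∃ (K : Type u) (_ : Field K) (_ : IsAlgClosed K),
    Nonempty (k →+* K) :=
  ⟨AlgebraicClosure k, inferInstance, inferInstance, ⟨algebraMap k (AlgebraicClosure k)⟩⟩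

theorem exists_geom_point {T : Scheme.{u}} (t : T) : ∃ (K : Type u) (_ : Field K) (_ : IsAlgClosed K)
    (ω : Spec (CommRingCat.of K) ⟶ T), ω (IsLocalRing.closedPoint K) = t := by
  obtain ⟨K, iK, iC, ⟨φ⟩⟩ := exists_alg_closed_hom (T.residueField t)
  refine ⟨K, iK, iC, Spec.map (CommRingCat.ofHom φ) ≫ T.fromSpecResidueField t, ?_⟩
  rw [Scheme.Hom.comp_apply]
  exact T.fromSpecResidueField_apply t _

/-- An étale morphism which is bijective on geometric points is an isomorphism. -/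
theorem isIso_of_etale_of_geom_bijective {P Q : Scheme.{u}} (h : P ⟶ Q) [Etale h]
    (hsurj : ∀ (K : Type u) [Field K] [IsAlgClosed K] (z : Spec (CommRingCat.of K) ⟶ Q), ∃ a, a ≫ h = z)
    (hinj : ∀ (K : Type u) [Field K] [IsAlgClosed K] (a b : Spec (CommRingCat.of K) ⟶ P),
      a ≫ h = b ≫ h → a = b) : IsIso h := by
  haveI : Surjective h := ⟨fun z => by
    obtain ⟨K, _, _, ω, hω⟩ := exists_geom_point z
    obtain ⟨a, ha⟩ := hsurj K ω
    exact ⟨a (IsLocalRing.closedPoint _), by rw [← Scheme.Hom.comp_apply, ha, hω]⟩⟩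
  haveI hd : Surjective (pullback.diagonal h) := ⟨fun w => by
    obtain ⟨K, _, _, ω, hω⟩ := exists_geom_point w
    have e : ω ≫ pullback.fst h h = ω ≫ pullback.snd h h :=
      hinj K _ _ (by simp only [Category.assoc, pullback.condition])
    have e2 : (ω ≫ pullback.fst h h) ≫ pullback.diagonal h = ω := by
      apply pullback.hom_ext
      · simp only [Category.assoc, pullback.diagonal_fst, Category.comp_id]
      · simp only [Category.assoc, pullback.diagonal_snd, Category.comp_id]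
        exact e
    exact ⟨(ω ≫ pullback.fst h h) (IsLocalRing.closedPoint _), by rw [← Scheme.Hom.comp_apply, e2, hω]⟩⟩
  haveI : IsIso (pullback.diagonal h) := (isIso_iff_isOpenImmersion_and_surjective _).mpr ⟨inferInstance, hd⟩
  haveI : Mono h := (pullback.isIso_diagonal_iff h).mp inferInstance
  haveI := IsOpenImmersion.of_flat_of_mono h
  exact (isIso_iff_isOpenImmersion_and_surjective _).mpr ⟨inferInstance, inferInstance⟩

variable {X Y : Scheme.{u}} {G : Type u} [Group G] [Finite G] {ρ : G →* Aut X} {p : X ⟶ Y}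

/-- No nontrivial element fixes a geometric point. -/
def IsFree (ρ : G →* Aut X) : Prop :=
  ∀ (K : Type u) [Field K] [IsAlgClosed K] (ξ : Spec (CommRingCat.of K) ⟶ X) (g : G),
    ξ ≫ (ρ g).hom = ξ → g = 1

omit [Finite G] in
theorem span_eq_top_of_free (hp : SGA1.IsQuot ρ p) (hfree : IsFree ρ) {V : Y.Opens} (hV : IsAffineOpen V)
    (g : G) (hg : g ≠ 1) :
    letI := action hp V
    Ideal.span (Set.range fun b : Γ(X, p ⁻¹ᵁ V) => b - g • b) = ⊤ := by
  letI := action hp V
  haveI := hp.affine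
  have hU : IsAffineOpen (p ⁻¹ᵁ V) := hV.preimage p
  by_contra hne
  obtain ⟨m, hm, hle⟩ := Ideal.exists_le_maximal _ hne
  haveI := hm
  letI := Ideal.Quotient.field m
  let φ : Γ(X, p ⁻¹ᵁ V) ⟶ CommRingCat.of (AlgebraicClosure (Γ(X, p ⁻¹ᵁ V) ⧸ m)) :=
    CommRingCat.ofHom ((algebraMap (Γ(X, p ⁻¹ᵁ V) ⧸ m) _).comp (Ideal.Quotient.mk m))
  refine hg (inv_eq_one.1 (hfree (AlgebraicClosure (Γ(X, p ⁻¹ᵁ V) ⧸ m)) (Spec.map φ ≫ hU.fromSpec) g⁻¹ ?_))
  have e : (ρ g⁻¹).hom.appLE _ _ (SGA1.preimage_le_of_inv ρ p hp.inv g⁻¹ V) ≫ φ = φ := by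
    refine CommRingCat.hom_ext (RingHom.ext fun b => ?_)
    show algebraMap _ _ (Ideal.Quotient.mk m (g • b)) = algebraMap _ _ (Ideal.Quotient.mk m b)
    congr 1
    exact (Ideal.Quotient.eq.2 (hle (Ideal.subset_span ⟨b, rfl⟩))).symm
  conv_rhs => rw [← e]
  rw [Spec.map_comp, Category.assoc, Category.assoc, IsAffineOpen.SpecMap_appLE_fromSpec (ρ g⁻¹).hom hU hU]

theorem etale_app_of_free (hp : SGA1.IsQuot ρ p) (hfree : IsFree ρ) {V : Y.Opens} (hV : IsAffineOpen V) :
    (p.app V).hom.Etale := by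
  letI := algebra p V
  letI := action hp V
  haveI := isInvariant hp V
  haveI := smulCommClass hp V
  exact (RingHom.etale_algebraMap (R := Γ(Y, V)) (S := Γ(X, p ⁻¹ᵁ V))).2
    (finite_projective_etale_of_free (G := G) (hp.injective V) (span_eq_top_of_free hp hfree hV)).2.2

/-- A quotient by a free action is étale. -/
theorem etale_of_free (hp : SGA1.IsQuot ρ p) (hfree : IsFree ρ) : Etale p := by
  haveI := hp.affine
  rw [HasRingHomProperty.iff_exists_appLE (P := @Etale) (RingHom.Etale.stableUnderComposition.stableUnderCompositionWithLocalizationAway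
    (RingHom.Etale.propertyIsLocal.HoldsForLocalizationAway RingHom.Etale.containsIdentities)).1]
  intro x
  obtain ⟨_, ⟨V, hV, rfl⟩, hy, -⟩ :=
    Y.isBasis_affineOpens.exists_subset_of_mem_open (Set.mem_univ (p.base x)) isOpen_univ
  refine ⟨⟨V, hV⟩, ⟨p ⁻¹ᵁ V, hV.preimage p⟩, hy, le_rfl, ?_⟩
  rw [Scheme.Hom.appLE_eq_app]
  exact etale_app_of_free hp hfree hV

theorem exists_unique_geom (hp : SGA1.IsQuot ρ p) (hfree : IsFree ρ) {K : Type u} [Field K] [IsAlgClosed K]
    (ξ ξ' : Spec (CommRingCat.of K) ⟶ X) (h : ξ ≫ p = ξ' ≫ p) : ∃! g : G, ξ ≫ (ρ g).hom = ξ' := by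
  obtain ⟨g, hg⟩ := exists_comp_eq_point hp ξ ξ' h
  refine ⟨g, hg, fun g' hg' => ?_⟩
  refine (mul_inv_eq_one.1 (hfree K ξ' (g' * g⁻¹) ?_))
  rw [map_mul]
  show ξ' ≫ (ρ g⁻¹).hom ≫ (ρ g').hom = ξ'
  have : ξ' ≫ (ρ g⁻¹).hom = ξ := by
    rw [← hg, Category.assoc, show (ρ g).hom ≫ (ρ g⁻¹).hom = (ρ g⁻¹ * ρ g).hom from rfl, ← map_mul, inv_mul_cancel,
      map_one]
    exact Category.comp_id _
  rw [← Category.assoc, this, hg']

theorem exists_sigma_point {ι : Type u} {Z : ι → Scheme.{u}} {K : Type u} [Field K]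
    (a : Spec (CommRingCat.of K) ⟶ ∐ Z) : ∃ (i : ι) (b : Spec (CommRingCat.of K) ⟶ Z i), b ≫ Sigma.ι Z i = a := by
  obtain ⟨i, z, hz⟩ : ∃ i, ∃ z : Z i, Sigma.ι Z i z = a (IsLocalRing.closedPoint K) :=
    Scheme.IsLocallyDirected.ι_jointly_surjective (Discrete.functor Z) (a (IsLocalRing.closedPoint K)) |>.elim
      fun i hi => ⟨i.as, hi⟩
  have hr : Set.range a ⊆ Set.range (Sigma.ι Z i) := by
    rintro _ ⟨s, rfl⟩
    rw [show s = IsLocalRing.closedPoint K from Subsingleton.elim _ _]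
    exact ⟨z, hz⟩
  exact ⟨i, IsOpenImmersion.lift (Sigma.ι Z i) a hr, IsOpenImmersion.lift_fac _ _ _⟩

variable (p) in
theorem etale_sigmaDesc [Etale p] {T S : Scheme.{u}} (f : T ⟶ S) [Etale f] (a : G → (S ⟶ T))
    (ha : ∀ g, a g ≫ f = 𝟙 S) : Etale (Sigma.desc a) := by
  haveI : Etale (Sigma.desc a ≫ f) := by
    have : Sigma.desc a ≫ f = Sigma.desc fun _ : G => 𝟙 S := Sigma.hom_ext _ _ fun g => by simp [ha]
    rw [this]
    exact IsZariskiLocalAtSource.sigmaDesc (P := @Etale) fun _ => inferInstance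
  exact Etale.of_comp (Sigma.desc a) f

theorem isIso_sigmaDesc_pullback (hp : SGA1.IsQuot ρ p) (hfree : IsFree ρ) :
    IsIso (Sigma.desc (fun g : G => pullback.lift (𝟙 X) (ρ g).hom ((Category.id_comp p).trans (hp.inv g).symm)) :
      (∐ fun _ : G => X) ⟶ pullback p p) := by
  haveI := etale_of_free hp hfree
  haveI := etale_sigmaDesc p (pullback.fst p p)
    (fun g : G => pullback.lift (𝟙 X) (ρ g).hom ((Category.id_comp p).trans (hp.inv g).symm))
    (fun g => pullback.lift_fst _ _ _)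
  refine isIso_of_etale_of_geom_bijective _ (fun K _ _ z => ?_) (fun K _ _ a b hab => ?_)
  · obtain ⟨g, hg, -⟩ := exists_unique_geom hp hfree (z ≫ pullback.fst p p) (z ≫ pullback.snd p p)
      (by rw [Category.assoc, Category.assoc, pullback.condition])
    refine ⟨(z ≫ pullback.fst p p) ≫ Sigma.ι (fun _ : G => X) g, ?_⟩
    rw [Category.assoc, Sigma.ι_desc]
    apply pullback.hom_ext
    · rw [Category.assoc, pullback.lift_fst]; exact Category.comp_id _
    · rw [Category.assoc, pullback.lift_snd]; exact hg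
  · obtain ⟨g, a', rfl⟩ := exists_sigma_point a
    obtain ⟨g', b', rfl⟩ := exists_sigma_point b
    rw [Category.assoc, Category.assoc, Sigma.ι_desc, Sigma.ι_desc] at hab
    have h1 := congrArg (· ≫ pullback.fst p p) hab
    have h2 := congrArg (· ≫ pullback.snd p p) hab
    simp only [Category.assoc, pullback.lift_fst, pullback.lift_snd] at h1 h2
    obtain rfl : a' = b' := by simpa using h1
    obtain rfl : g = g' := (exists_unique_geom hp hfree a' (a' ≫ (ρ g).hom) (by rw [Category.assoc, hp.inv g])).unique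
      rfl h2.symm
    rfl

theorem isIso_sigmaDesc_section (hp : SGA1.IsQuot ρ p) (hfree : IsFree ρ) (s : Y ⟶ X) (hs : s ≫ p = 𝟙 Y) :
    IsIso (Sigma.desc (fun g : G => s ≫ (ρ g).hom) : (∐ fun _ : G => Y) ⟶ X) := by
  haveI := etale_of_free hp hfree
  have hsg : ∀ g : G, (s ≫ (ρ g).hom) ≫ p = 𝟙 Y := fun g => by rw [Category.assoc, hp.inv g, hs]
  haveI := etale_sigmaDesc p p (fun g : G => s ≫ (ρ g).hom) hsg
  refine isIso_of_etale_of_geom_bijective _ (fun K _ _ z => ?_) (fun K _ _ a b hab => ?_)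
  · obtain ⟨g, hg, -⟩ := exists_unique_geom hp hfree ((z ≫ p) ≫ s) z (by rw [Category.assoc, hs]; exact Category.comp_id _)
    refine ⟨(z ≫ p) ≫ Sigma.ι (fun _ : G => Y) g, ?_⟩
    rw [Category.assoc, Sigma.ι_desc, ← Category.assoc]
    exact hg
  · obtain ⟨g, a', rfl⟩ := exists_sigma_point a
    obtain ⟨g', b', rfl⟩ := exists_sigma_point b
    rw [Category.assoc, Category.assoc, Sigma.ι_desc, Sigma.ι_desc] at hab
    have h1 := congrArg (· ≫ p) hab
    simp only [Category.assoc, hp.inv, hs] at h1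
    obtain rfl : a' = b' := by simpa using h1
    obtain rfl : g = g' := (exists_unique_geom hp hfree (a' ≫ s) ((a' ≫ s) ≫ (ρ g).hom)
      (by rw [Category.assoc (a' ≫ s), hp.inv g])).unique rfl (by rw [Category.assoc, Category.assoc]; exact hab.symm)
    rfl

end Groth.Agent.QuotLib
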