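import Groth.Agent.QuotLib.Affine
import Groth.Agent.QuotLib.Free

/-! A quotient of an étale separated scheme by a finite group is étale. -/

set_option autoImplicit false
universe u
open CategoryTheory CategoryTheory.Limits AlgebraicGeometry Opposite TopologicalSpace

noncomputable section

namespace Groth.Agent.QuotLib

variable {X Y : Scheme.{u}} {G : Type u} [Group G] {ρ : G →* Aut X}

/-- The points whose residue field point is fixed. -/
def fixSet (ρ : G →* Aut X) (g : G) : Set X :=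
  {z | X.fromSpecResidueField z ≫ (ρ g).hom = X.fromSpecResidueField z}

theorem comp_hom (a b : G) : (ρ b).hom ≫ (ρ a).hom = (ρ (a * b)).hom := by rw [map_mul]; rfl

theorem hom_one : (ρ (1 : G)).hom = 𝟙 X := by rw [map_one]; rfl

/-- The stabilizer of the residue field point. -/
def inertia (ρ : G →* Aut X) (z : X) : Subgroup G where
  carrier := {g | z ∈ fixSet ρ g}
  one_mem' := by
    show _ ≫ (ρ 1).hom = _
    rw [hom_one]; exact Category.comp_id _
  mul_mem' {a b} ha hb := by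
    show _ ≫ (ρ (a * b)).hom = _
    rw [← comp_hom, ← Category.assoc, show _ ≫ (ρ b).hom = _ from hb]
    exact ha
  inv_mem' {a} ha := by
    show _ ≫ (ρ a⁻¹).hom = _
    conv_lhs => rw [← show _ ≫ (ρ a).hom = _ from ha]
    rw [Category.assoc, comp_hom, inv_mul_cancel, hom_one, Category.comp_id]

theorem mem_fixSet_iff_of_point {K : Type u} [Field K] (ξ : Spec (CommRingCat.of K) ⟶ X) (g : G) :
    ξ ≫ (ρ g).hom = ξ ↔ ξ (IsLocalRing.closedPoint K) ∈ fixSet ρ g := by
  obtain ⟨⟨z, φ⟩, rfl⟩ := (Scheme.SpecToEquivOfField K X).symm.surjective ξ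
  have hz : (Spec.map φ ≫ X.fromSpecResidueField z) (IsLocalRing.closedPoint K) = z := by
    rw [Scheme.Hom.comp_apply]; exact X.fromSpecResidueField_apply _ _
  show (Spec.map φ ≫ X.fromSpecResidueField z) ≫ _ = Spec.map φ ≫ X.fromSpecResidueField z ↔
    (Spec.map φ ≫ X.fromSpecResidueField z) (IsLocalRing.closedPoint K) ∈ fixSet ρ g
  rw [hz]
  refine ⟨fun h => ?_, fun h => by rw [Category.assoc, show _ ≫ (ρ g).hom = _ from h]⟩
  show X.fromSpecResidueField z ≫ (ρ g).hom = X.fromSpecResidueField z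
  have e : (ρ g).hom z = z := by
    have := congrArg (fun k : _ ⟶ X => k (IsLocalRing.closedPoint K)) h
    simp only [Scheme.Hom.comp_apply] at this
    rwa [show X.fromSpecResidueField z ((Spec.map φ) (IsLocalRing.closedPoint K)) = z from
      X.fromSpecResidueField_apply _ _] at this
  have hfac : X.fromSpecResidueField z ≫ (ρ g).hom =
      Spec.map ((X.residueFieldCongr e).inv ≫ (ρ g).hom.residueFieldMap z) ≫ X.fromSpecResidueField z := by
    rw [← Scheme.Hom.SpecMap_residueFieldMap_fromSpecResidueField, Spec.map_comp, Category.assoc]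
    congr 1
    exact ((Iso.eq_inv_comp (Scheme.Spec.mapIso (X.residueFieldCongr e).op)).2
      (Scheme.residueFieldCongr_fromSpecResidueField e))
  rw [Category.assoc, hfac, ← Category.assoc, cancel_mono, ← Spec.map_comp, Spec.map_injective.eq_iff] at h
  have h1 : (X.residueFieldCongr e).inv ≫ (ρ g).hom.residueFieldMap z = 𝟙 _ := by
    haveI : Mono φ := ConcreteCategory.mono_of_injective φ φ.hom.injective
    rw [← cancel_mono φ, h, Category.id_comp]
  rw [hfac, h1, Spec.map_id, Category.id_comp]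

theorem mem_inertia_translate (z : X) (g k : G) : (ρ k).hom z ∈ fixSet ρ g ↔ z ∈ fixSet ρ (k⁻¹ * g * k) := by
  obtain ⟨K, _, _, ω, hω⟩ := exists_geom_point z
  rw [show (ρ k).hom z = (ω ≫ (ρ k).hom) (IsLocalRing.closedPoint K) by rw [Scheme.Hom.comp_apply, hω],
    ← mem_fixSet_iff_of_point, show z = ω (IsLocalRing.closedPoint K) from hω.symm, ← mem_fixSet_iff_of_point,
    Category.assoc, comp_hom]
  constructor
  · intro h
    have h2 := congrArg (· ≫ (ρ k⁻¹).hom) h
    simp only [Category.assoc, comp_hom] at h2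
    rw [inv_mul_cancel, hom_one, Category.comp_id, ← mul_assoc] at h2
    exact h2
  · intro h
    conv_rhs => rw [← h]
    rw [Category.assoc, comp_hom]
    congr 3
    group

section Clopen

variable (f : X ⟶ Y) [Etale f] [IsSeparated f] (hρ : ∀ g : G, (ρ g).hom ≫ f = f)

include hρ in
theorem isClopen_fixSet (g : G) : IsClopen (fixSet ρ g) ∧
    ∀ (U : X.Opens), (U : Set X) ⊆ fixSet ρ g → U.ι ≫ (ρ g).hom = U.ι := by
  let L : X ⟶ pullback f f := pullback.lift (ρ g).hom (𝟙 X) (by rw [hρ, Category.id_comp])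
  let j := pullback.fst L (pullback.diagonal f)
  have hj : j ≫ (ρ g).hom = j := by
    calc j ≫ (ρ g).hom = j ≫ (L ≫ pullback.fst f f) :=
          congrArg (j ≫ ·) (pullback.lift_fst _ _ _).symm
      _ = pullback.snd _ _ := by
          rw [← Category.assoc, pullback.condition, Category.assoc, pullback.diagonal_fst, Category.comp_id]
      _ = j ≫ (L ≫ pullback.snd f f) := by
          rw [← Category.assoc, pullback.condition, Category.assoc, pullback.diagonal_snd, Category.comp_id]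
      _ = j := (congrArg (j ≫ ·) (pullback.lift_snd _ _ _)).trans (Category.comp_id _)
  have hE : fixSet ρ g = Set.range j := by
    refine Set.ext fun z => ⟨fun hz => ?_, ?_⟩
    · have hl : X.fromSpecResidueField z ≫ L = X.fromSpecResidueField z ≫ pullback.diagonal f := by
        apply pullback.hom_ext
        · rw [Category.assoc, Category.assoc, pullback.diagonal_fst, Category.comp_id]
          exact (congrArg (X.fromSpecResidueField z ≫ ·) (pullback.lift_fst _ _ _)).trans hz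
        · rw [Category.assoc, Category.assoc, pullback.diagonal_snd, Category.comp_id]
          exact (congrArg (X.fromSpecResidueField z ≫ ·) (pullback.lift_snd _ _ _)).trans (Category.comp_id _)
      refine ⟨pullback.lift (X.fromSpecResidueField z) (X.fromSpecResidueField z) hl (IsLocalRing.closedPoint _), ?_⟩
      rw [← Scheme.Hom.comp_apply, pullback.lift_fst]
      exact X.fromSpecResidueField_apply z _
    · rintro ⟨w, rfl⟩
      have hr : Set.range (X.fromSpecResidueField (j w)) ⊆ Set.range j := by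
        rw [Scheme.range_fromSpecResidueField]
        rintro _ rfl
        exact ⟨w, rfl⟩
      show X.fromSpecResidueField (j w) ≫ (ρ g).hom = _
      rw [← IsOpenImmersion.lift_fac j _ hr, Category.assoc, hj]
  refine ⟨hE ▸ ⟨j.isClosedEmbedding.isClosed_range, j.isOpenEmbedding.isOpen_range⟩, fun U hU => ?_⟩
  have hr : Set.range U.ι ⊆ Set.range j := by rw [Scheme.Opens.range_ι, ← hE]; exact hU
  rw [← IsOpenImmersion.lift_fac j U.ι hr, Category.assoc, hj]

end Clopen

theorem eq_of_isEmpty_open {Z : Scheme.{u}} {U : Z.Opens} (hU : ∀ x, x ∉ U) (a b : Γ(Z, U)) : a = b :=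
  TopCat.Sheaf.eq_of_locally_eq' Z.sheaf (fun _ : PEmpty.{u + 1} => (⊥ : Z.Opens)) U (fun i => i.elim)
    (fun x hx => (hU x hx).elim) a b fun i => i.elim

variable [Finite G] {p : X ⟶ Y}

theorem bij_appLE_of_translates (hp : SGA1.IsQuot ρ p) (W' : Y.Opens) (D : X.Opens) (hDW : D ≤ p ⁻¹ᵁ W')
    (N : Subgroup G) (hn : ∀ n : N, D ≤ (ρ n).hom ⁻¹ᵁ D)
    (hdisj : ∀ k : G, k ∉ N → ∀ z, z ∈ D → (ρ k).hom z ∉ D)
    (hcov : ∀ z, z ∈ p ⁻¹ᵁ W' → ∃ k : G, (ρ k).hom z ∈ D) :
    Function.Injective (p.appLE W' D hDW).hom ∧ ∀ s : Γ(X, D),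
      (∀ n : N, ((ρ n).hom.appLE D D (hn n)).hom s = s) → ∃ t, (p.appLE W' D hDW).hom t = s := by
  let E : G → X.Opens := fun k => (ρ k).hom ⁻¹ᵁ D
  have hE : ∀ z, z ∈ p ⁻¹ᵁ W' → ∃ k, z ∈ E k := fun z hz => by
    exact hcov z hz
  have hEle : ∀ k, E k ≤ p ⁻¹ᵁ W' := fun k z hz => by
    have := hDW hz
    show p z ∈ W'
    rw [← hp.inv k, Scheme.Hom.comp_apply]
    exact this
  have hpk : ∀ k, p.appLE W' D hDW ≫ (ρ k).hom.appLE D (E k) le_rfl = p.appLE W' (E k) (hEle k) := fun k => by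
    rw [Scheme.Hom.appLE_comp_appLE]
    have h3 : ∀ (q : X ⟶ Y) (_ : q = p) (h1 : E k ≤ q ⁻¹ᵁ W'), q.appLE W' _ h1 = p.appLE W' _ (hEle k) := by
      rintro q rfl h1; rfl
    exact h3 _ (hp.inv k) _
  refine ⟨fun a b hab => ?_, fun s hs' => ?_⟩
  · refine hp.injective W' (TopCat.Sheaf.eq_of_locally_eq' X.sheaf E (p ⁻¹ᵁ W') (fun k => homOfLE (hEle k))
      (fun z hz => Opens.mem_iSup.2 (hE z hz)) _ _ fun k => ?_)
    have hmid : ∀ x, (X.presheaf.map (homOfLE (hEle k)).op).hom ((p.app W').hom x) =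
        ((ρ k).hom.appLE D (E k) le_rfl).hom ((p.appLE W' D hDW).hom x) :=
      fun x => congrArg (fun φ : _ ⟶ _ => CommRingCat.Hom.hom φ x) (hpk k).symm
    exact (hmid a).trans ((congrArg _ hab).trans (hmid b).symm)
  · let sf : ∀ k, Γ(X, E k) := fun k => ((ρ k).hom.appLE D (E k) le_rfl).hom s
    have hcompat : TopCat.Presheaf.IsCompatible X.sheaf.1 E sf := fun k l => by
      by_cases hkl : k * l⁻¹ ∈ N
      · have key : ∀ (a : X ⟶ X) (_ : a = (ρ k).hom) (h1 : E k ⊓ E l ≤ a ⁻¹ᵁ D),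
            a.appLE D (E k ⊓ E l) h1 = (ρ k).hom.appLE D (E k ⊓ E l) inf_le_left := by rintro a rfl h1; rfl
        have e2 := key ((ρ l).hom ≫ (ρ (k * l⁻¹)).hom) (by rw [comp_hom, inv_mul_cancel_right])
          (fun z hz => hn ⟨_, hkl⟩ hz.2)
        rw [← Scheme.Hom.appLE_comp_appLE (ρ l).hom (ρ (k * l⁻¹)).hom D D _ (hn ⟨_, hkl⟩) inf_le_right] at e2
        have e3 := congrArg (fun φ : _ ⟶ _ => CommRingCat.Hom.hom φ s) e2
        rw [CommRingCat.comp_apply, hs' ⟨_, hkl⟩] at e3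
        show (X.presheaf.map _).hom (((ρ k).hom.appLE D (E k) le_rfl).hom s) =
          (X.presheaf.map _).hom (((ρ l).hom.appLE D (E l) le_rfl).hom s)
        refine Eq.trans ?_ (Eq.trans e3.symm ?_)
        · exact congrArg (fun φ : _ ⟶ _ => CommRingCat.Hom.hom φ s) (Scheme.Hom.appLE_map _ _ _)
        · exact (congrArg (fun φ : _ ⟶ _ => CommRingCat.Hom.hom φ s) (Scheme.Hom.appLE_map _ _ _)).symm
      · refine eq_of_isEmpty_open (fun z (hz : z ∈ E k ⊓ E l) => hdisj _ hkl ((ρ l).hom z) hz.2 ?_) _ _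
        have : (ρ (k * l⁻¹)).hom ((ρ l).hom z) = (ρ k).hom z := by
          rw [← Scheme.Hom.comp_apply, comp_hom, inv_mul_cancel_right]
        rw [this]
        exact hz.1
    obtain ⟨gl, hgl, -⟩ := TopCat.Sheaf.existsUnique_gluing' X.sheaf E (p ⁻¹ᵁ W') (fun k => homOfLE (hEle k))
      (fun z hz => Opens.mem_iSup.2 (hE z hz)) sf hcompat
    obtain ⟨t, ht⟩ := (hp.range_iff W' gl).2 fun g => by
      refine TopCat.Sheaf.eq_of_locally_eq' X.sheaf E (p ⁻¹ᵁ W') (fun k => homOfLE (hEle k))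
        (fun z hz => Opens.mem_iSup.2 (hE z hz)) _ _ fun k => ?_
      have hm : E k ≤ (ρ g).hom ⁻¹ᵁ E (k * g⁻¹) := fun z hz => by
        show (ρ (k * g⁻¹)).hom ((ρ g).hom z) ∈ D
        rw [← Scheme.Hom.comp_apply, comp_hom, inv_mul_cancel_right]
        exact hz
      have e1 : (ρ g).hom.appLE _ _ (SGA1.preimage_le_of_inv ρ p hp.inv g W') ≫ X.presheaf.map (homOfLE (hEle k)).op =
          X.presheaf.map (homOfLE (hEle (k * g⁻¹))).op ≫ (ρ g).hom.appLE (E (k * g⁻¹)) (E k) hm := by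
        rw [Scheme.Hom.map_appLE, Scheme.Hom.appLE_map]
      refine (congrArg (fun φ : _ ⟶ _ => CommRingCat.Hom.hom φ gl) e1).trans (Eq.trans ?_ (hgl k).symm)
      show ((ρ g).hom.appLE (E (k * g⁻¹)) (E k) hm).hom ((X.presheaf.map _).hom gl) = _
      rw [show (X.presheaf.map (homOfLE (hEle (k * g⁻¹))).op).hom gl = _ from hgl (k * g⁻¹), ← CommRingCat.comp_apply,
        Scheme.Hom.appLE_comp_appLE]
      have key : ∀ (a : X ⟶ X) (_ : a = (ρ k).hom) (h1 : E k ≤ a ⁻¹ᵁ D),
          a.appLE D (E k) h1 = (ρ k).hom.appLE D (E k) le_rfl := by rintro a rfl h1; rfl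
      rw [key _ (by rw [comp_hom, inv_mul_cancel_right])]
    refine ⟨t, ?_⟩
    have hD1 : D ≤ E 1 := fun z hz => by
      show (ρ 1).hom z ∈ D
      rw [hom_one]; exact hz
    have h1 := congrArg (X.presheaf.map (homOfLE hD1).op).hom (hgl 1)
    rw [← ht] at h1
    have hL : p.app W' ≫ X.presheaf.map (homOfLE (hEle 1)).op ≫ X.presheaf.map (homOfLE hD1).op = p.appLE W' D hDW := by
      rw [← Functor.map_comp]; rfl
    have h2 : (p.appLE W' D hDW).hom t = ((ρ 1).hom.appLE D D hD1).hom s :=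
      (congrArg (fun φ : _ ⟶ _ => CommRingCat.Hom.hom φ t) hL).symm.trans
        (h1.trans (congrArg (fun φ : _ ⟶ _ => CommRingCat.Hom.hom φ s) (Scheme.Hom.appLE_map _ _ _)))
    have key : ∀ (a : X ⟶ X) (_ : a = 𝟙 X) (h1 : D ≤ a ⁻¹ᵁ D), (a.appLE D D h1).hom s = s := by
      rintro a rfl h1
      show (X.presheaf.map (𝟙 _)).hom s = s
      rw [CategoryTheory.Functor.map_id]
      rfl
    exact h2.trans (key _ hom_one _)

/-- Restricting to an open `U` whose translates form a partition. -/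
theorem isQuot_of_translates (hp : SGA1.IsQuot ρ p) (N : Subgroup G) (U : X.Opens) (V : Y.Opens)
    (hUc : IsClosed (U : Set X)) (hN : ∀ n : N, U ≤ (ρ n).hom ⁻¹ᵁ U)
    (hdisj : ∀ k : G, k ∉ N → ∀ z, z ∈ U → (ρ k).hom z ∉ U)
    (hUV : U ≤ p ⁻¹ᵁ V) (hcov : ∀ z, p z ∈ V → ∃ k : G, (ρ k).hom z ∈ U) :
    SGA1.IsQuot (restrictAut (ρ.comp N.subtype) U hN) (p.resLE V U hUV) := by
  haveI := hp.affine
  have hinv : ∀ n : N, (restrictAut (ρ.comp N.subtype) U hN n).hom ≫ p.resLE V U hUV = p.resLE V U hUV := fun n => by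
    rw [← cancel_mono V.ι, Category.assoc, Scheme.Hom.resLE_comp_ι, ← Category.assoc, restrictAut_hom_ι,
      Category.assoc]
    exact congrArg (U.ι ≫ ·) (hp.inv n)
  haveI : IsAffineHom (p.resLE V U hUV) := by
    rw [Scheme.Hom.resLE]
    haveI : IsClosedImmersion (X.homOfLE hUV) := by
      refine IsClosedImmersion.of_isPreimmersion _ ?_
      rw [show Set.range (X.homOfLE hUV) = (p ⁻¹ᵁ V).ι ⁻¹' U from ?_]
      · exact hUc.preimage (p ⁻¹ᵁ V).ι.continuous
      ext z
      constructor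
      · rintro ⟨w, rfl⟩
        show (p ⁻¹ᵁ V).ι (X.homOfLE hUV w) ∈ U
        rw [← Scheme.Hom.comp_apply, Scheme.homOfLE_ι]
        exact w.2
      · intro hz
        refine ⟨⟨(p ⁻¹ᵁ V).ι z, hz⟩, (p ⁻¹ᵁ V).ι.isOpenEmbedding.injective ?_⟩
        rw [← Scheme.Hom.comp_apply, Scheme.homOfLE_ι]
        rfl
    haveI : IsAffineHom (p ∣_ V) := MorphismProperty.of_isPullback (isPullback_morphismRestrict p V).flip hp.affine
    infer_instance
  refine isQuot_of_basis hinv Set.univ (Opens.isBasis_iff_nbhd.2 fun {W} {x} hx => ⟨W, trivial, hx, le_rfl⟩) ?_ ?_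
  all_goals intro W _
  all_goals
    let W' : Y.Opens := V.ι ''ᵁ W
    let D : X.Opens := U.ι ''ᵁ (p.resLE V U hUV ⁻¹ᵁ W)
    have hD : ∀ z, z ∈ D ↔ z ∈ U ∧ p z ∈ W' := fun z => by
      constructor
      · rintro ⟨a, ha, rfl⟩
        refine ⟨a.2, _, ha, ?_⟩
        exact congrArg (fun k : U.toScheme ⟶ Y => k a) (Scheme.Hom.resLE_comp_ι p hUV)
      · rintro ⟨hz, b, hb, hbz⟩
        refine ⟨⟨z, hz⟩, ?_, rfl⟩
        show p.resLE V U hUV ⟨z, hz⟩ ∈ W
        have e : V.ι (p.resLE V U hUV ⟨z, hz⟩) = p z :=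
          congrArg (fun k : U.toScheme ⟶ Y => k ⟨z, hz⟩) (Scheme.Hom.resLE_comp_ι p hUV)
        rwa [show p.resLE V U hUV ⟨z, hz⟩ = b from V.ι.isOpenEmbedding.injective (e.trans hbz.symm)]
    have hDW : D ≤ p ⁻¹ᵁ W' := fun z hz => ((hD z).1 hz).2
    have hWV : ∀ z, p z ∈ W' → p z ∈ V := fun z hz => by
      obtain ⟨b, -, hb⟩ := hz
      rw [← hb]
      exact b.2
    have happ : (p.resLE V U hUV).app W = p.appLE W' D hDW := by
      rw [← Scheme.Hom.appLE_eq_app, Scheme.Hom.resLE_appLE]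
  · rw [happ]
    exact (bij_appLE_of_translates hp W' D hDW N
      (fun n z hz => (hD _).2 ⟨hN n ((hD z).1 hz).1, by
        show p ((ρ n).hom z) ∈ W'
        rw [← Scheme.Hom.comp_apply, hp.inv]
        exact ((hD z).1 hz).2⟩)
      (fun k hk z hz h => hdisj k hk z ((hD z).1 hz).1 ((hD _).1 h).1)
      (fun z hz => by
        obtain ⟨k, hk⟩ := hcov z (hWV z hz)
        refine ⟨k, (hD _).2 ⟨hk, ?_⟩⟩
        rw [← Scheme.Hom.comp_apply, hp.inv k]
        exact hz)).1
  · intro s hs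
    obtain ⟨t, ht⟩ := (bij_appLE_of_translates hp W' D hDW N
      (fun n z hz => (hD _).2 ⟨hN n ((hD z).1 hz).1, by
        show p ((ρ n).hom z) ∈ W'
        rw [← Scheme.Hom.comp_apply, hp.inv]
        exact ((hD z).1 hz).2⟩)
      (fun k hk z hz h => hdisj k hk z ((hD z).1 hz).1 ((hD _).1 h).1)
      (fun z hz => by
        obtain ⟨k, hk⟩ := hcov z (hWV z hz)
        refine ⟨k, (hD _).2 ⟨hk, ?_⟩⟩
        rw [← Scheme.Hom.comp_apply, hp.inv k]
        exact hz)).2 s fun n => by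
      have e : ∀ h, ((restrictAut (ρ.comp N.subtype) U hN n).hom.appLE _ _ (SGA1.preimage_le_of_inv _ _ hinv n W)) =
          (ρ n).hom.appLE D D h := fun h => by
        show ((ρ n).hom.resLE U U (hN n)).appLE _ _ _ = _
        rw [Scheme.Hom.resLE_appLE]
      rw [← e]
      exact hs n
    exact ⟨t, by rw [happ]; exact ht⟩

/-- The quotient of a separated étale scheme by a finite group is étale. -/
theorem etale_of_etale {Z : Scheme.{u}} (hp : SGA1.IsQuot ρ p) (f : X ⟶ Z) [Etale f] [IsSeparated f]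
    (hρ : ∀ g : G, (ρ g).hom ≫ f = f) : Etale p := by
  classical
  let U : Subgroup G → X.Opens := fun H =>
    ⟨⋂ g : G, if g ∈ H then fixSet ρ g else (fixSet ρ g)ᶜ, isOpen_iInter_of_finite fun g => by
      split_ifs
      · exact (isClopen_fixSet f hρ g).1.2
      · exact (isClopen_fixSet f hρ g).1.1.isOpen_compl⟩
  have hU : ∀ H z, z ∈ U H ↔ ∀ g, (z ∈ fixSet ρ g ↔ g ∈ H) := fun H z => by
    refine Set.mem_iInter.trans (forall_congr' fun g => ?_)
    split_ifs with h <;> simp [h]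
  have hUc : ∀ H, IsClosed ((U H : X.Opens) : Set X) := fun H => isClosed_iInter fun g => by
    split_ifs
    · exact (isClopen_fixSet f hρ g).1.1
    · exact (isClopen_fixSet f hρ g).1.2.isClosed_compl
  have htrans : ∀ (H : Subgroup G) (z : X) (k : G), z ∈ U H →
      ((ρ k).hom z ∈ U H ↔ k ∈ Subgroup.normalizer (H : Set G)) := fun H z k hz => by
    rw [hU, Subgroup.mem_normalizer_iff'']
    simp only [mem_inertia_translate, (hU H z).1 hz]
    exact forall_congr' fun g => Iff.comm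
  refine (IsZariskiLocalAtSource.iff_of_openCover (P := @Etale)
    (X.openCoverOfIsOpenCover U (eq_top_iff.2 fun z _ => Opens.mem_iSup.2 ⟨inertia ρ z, (hU _ z).2 fun g => Iff.rfl⟩))).2
    fun H => ?_
  let H : Subgroup G := H
  show Etale ((U H).ι ≫ p)
  let N : Subgroup G := Subgroup.normalizer (H : Set G)
  have hN : ∀ n : N, U H ≤ (ρ n).hom ⁻¹ᵁ U H := fun n z hz => (htrans H z n hz).2 n.2
  let V : Y.Opens := ⟨p '' (U H : Set X), by
    rw [← (isQuotientMap hp).isOpen_preimage]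
    have : p ⁻¹' (p '' (U H : Set X)) = ⋃ k : G, (ρ k).hom ⁻¹' (U H : Set X) := by
      ext z
      simp only [Set.mem_preimage, Set.mem_image, Set.mem_iUnion]
      constructor
      · rintro ⟨w, hw, e⟩
        obtain ⟨k, hk⟩ := exists_eq_of_base_eq hp e.symm
        exact ⟨k, hk ▸ hw⟩
      · rintro ⟨k, hk⟩
        exact ⟨_, hk, base_apply_inv hp k z⟩
    show IsOpen (p ⁻¹' (p '' (U H : Set X)))
    rw [this]
    exact isOpen_iUnion fun k => (U H).2.preimage (ρ k).hom.continuous⟩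
  have hq := isQuot_of_translates hp N (U H) V (hUc H) hN (fun k hk z hz h => hk ((htrans H z k hz).1 h))
    (fun z hz => ⟨z, hz, rfl⟩) (fun z ⟨w, hw, e⟩ => by
      obtain ⟨k, hk⟩ := exists_eq_of_base_eq hp e.symm
      exact ⟨k, hk ▸ hw⟩)
  let σ := restrictAut (ρ.comp N.subtype) (U H) hN
  have hq' : SGA1.IsQuot σ.range.subtype (p.resLE V (U H) fun z hz => ⟨z, hz, rfl⟩) := by
    refine ⟨hq.affine, ?_, hq.injective, fun W s => (hq.range_iff W s).trans ⟨?_, ?_⟩⟩
    · rintro ⟨_, n, rfl⟩; exact hq.inv n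
    · rintro h ⟨_, n, rfl⟩; exact h n
    · intro h n; exact h ⟨σ n, n, rfl⟩
  haveI : Finite σ.range := Finite.of_surjective σ.rangeRestrict σ.rangeRestrict_surjective
  haveI := etale_of_free hq' (by
    rintro K _ _ ξ ⟨_, n, rfl⟩ hξ
    have h2 : (ξ ≫ (U H).ι) ≫ (ρ (n : G)).hom = ξ ≫ (U H).ι := by
      have := restrictAut_hom_ι (ρ.comp N.subtype) (U H) hN n
      rw [Category.assoc]
      refine (congrArg (ξ ≫ ·) this.symm).trans ?_
      rw [← Category.assoc]
      exact congrArg (· ≫ (U H).ι) hξ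
    have h3 := (mem_fixSet_iff_of_point _ _).1 h2
    have hmem : (n : G) ∈ H :=
      ((hU H ((ξ ≫ (U H).ι) (IsLocalRing.closedPoint K))).1 (by rw [Scheme.Hom.comp_apply]; exact (ξ _).2) n).1 h3
    refine Subtype.ext (Iso.ext ?_)
    show (σ n).hom = 𝟙 _
    rw [← cancel_mono (U H).ι, Category.id_comp]
    exact (restrictAut_hom_ι (ρ.comp N.subtype) (U H) hN n).trans ((isClopen_fixSet f hρ (n : G)).2 (U H)
      fun z hz => ((hU H z).1 hz n).2 hmem))
  rw [← Scheme.Hom.resLE_comp_ι p (U := V) (V := U H) (fun z hz => ⟨z, hz, rfl⟩)]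
  infer_instance

end Groth.Agent.QuotLib
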