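import Groth.Agent.QuotLib.AffineQuot

/-! Existence of quotients by finite groups. -/

set_option autoImplicit false
universe u
open CategoryTheory CategoryTheory.Limits AlgebraicGeometry Opposite TopologicalSpace

noncomputable section

namespace Groth.Agent.QuotLib

variable {X : Scheme.{u}} {G : Type u} [Group G] [Finite G] (ρ : G →* Aut X)

/-- Invariant affine opens. -/
abbrev InvAff : Type u := {U : X.Opens // IsAffineOpen U ∧ ∀ g : G, U ≤ (ρ g).hom ⁻¹ᵁ U}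

variable {ρ}

/-- The quotient of an invariant affine open. -/
def QObj (U : InvAff ρ) : Scheme.{u} :=
  (@exists_isQuot_of_isAffine _ G _ _ (restrictAut ρ U.1 U.2.2) U.2.1).choose

/-- The quotient map of an invariant affine open. -/
def qMap (U : InvAff ρ) : U.1.toScheme ⟶ QObj U :=
  (@exists_isQuot_of_isAffine _ G _ _ (restrictAut ρ U.1 U.2.2) U.2.1).choose_spec.choose

theorem isQuot_qMap (U : InvAff ρ) : SGA1.IsQuot (restrictAut ρ U.1 U.2.2) (qMap U) :=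
  (@exists_isQuot_of_isAffine _ G _ _ (restrictAut ρ U.1 U.2.2) U.2.1).choose_spec.choose_spec.2

theorem restrictAut_homOfLE {U V : X.Opens} (hU : ∀ g : G, U ≤ (ρ g).hom ⁻¹ᵁ U)
    (hV : ∀ g : G, V ≤ (ρ g).hom ⁻¹ᵁ V) (h : U ≤ V) (g : G) :
    (restrictAut ρ U hU g).hom ≫ X.homOfLE h = X.homOfLE h ≫ (restrictAut ρ V hV g).hom := by
  rw [← cancel_mono V.ι, Category.assoc, Category.assoc, Scheme.homOfLE_ι, restrictAut_hom_ι, restrictAut_hom_ι,
    Scheme.homOfLE_ι_assoc]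

theorem mapHom_inv {U V : InvAff ρ} (h : U.1 ≤ V.1) (g : G) :
    (restrictAut ρ U.1 U.2.2 g).hom ≫ X.homOfLE h ≫ qMap V = X.homOfLE h ≫ qMap V := by
  rw [← Category.assoc, restrictAut_homOfLE U.2.2 V.2.2 h, Category.assoc, (isQuot_qMap V).inv g]

/-- The transition maps. -/
def mapHom {U V : InvAff ρ} (h : U.1 ≤ V.1) : QObj U ⟶ QObj V :=
  desc (isQuot_qMap U) (X.homOfLE h ≫ qMap V) (mapHom_inv h)

theorem qMap_mapHom {U V : InvAff ρ} (h : U.1 ≤ V.1) : qMap U ≫ mapHom h = X.homOfLE h ≫ qMap V :=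
  comp_desc (isQuot_qMap U) _ (mapHom_inv h)

variable (ρ) in
/-- The diagram of affine quotients. -/
def diagram : InvAff ρ ⥤ Scheme.{u} where
  obj U := QObj U
  map f := mapHom (leOfHom f)
  map_id U := eq_of_comp_eq (isQuot_qMap U) (by
    rw [qMap_mapHom, Category.comp_id, Scheme.homOfLE_rfl, Category.id_comp])
  map_comp {U V W} f g := eq_of_comp_eq (isQuot_qMap U) (by
    rw [qMap_mapHom, ← Category.assoc, qMap_mapHom, Category.assoc, qMap_mapHom, Scheme.homOfLE_homOfLE_assoc])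

theorem qMap_fiber {U : InvAff ρ} {a b : U.1.toScheme} (h : qMap U a = qMap U b) :
    ∃ g : G, (ρ g).hom (U.1.ι a) = U.1.ι b := by
  obtain ⟨g, hg⟩ := exists_eq_of_base_eq (isQuot_qMap U) h
  refine ⟨g, ?_⟩
  rw [← hg]
  exact congrArg (fun k : U.1.toScheme ⟶ X => k.base a) (restrictAut_hom_ι ρ U.1 U.2.2 g).symm

theorem isOpenImmersion_mapHom {U V : InvAff ρ} (h : U.1 ≤ V.1) : IsOpenImmersion (mapHom h) := by
  let S : Set V.1.toScheme := {a | V.1.ι a ∈ U.1}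
  have hS : IsOpen S := U.1.2.preimage V.1.ι.continuous
  have hpre : qMap V ⁻¹' (qMap V '' S) = S := by
    refine Set.Subset.antisymm ?_ (Set.subset_preimage_image _ _)
    rintro a ⟨b, hb, hab⟩
    obtain ⟨g, hg⟩ := qMap_fiber hab
    show V.1.ι a ∈ U.1
    rw [← hg]
    exact U.2.2 g hb
  have himg : IsOpen (qMap V '' S) := by
    rw [← (isQuotientMap (isQuot_qMap V)).isOpen_preimage]
    show IsOpen (qMap V ⁻¹' (qMap V '' S))
    rw [hpre]
    exact hS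
  let O : (QObj V).Opens := ⟨qMap V '' S, himg⟩
  have hq := isQuot_restrict (isQuot_qMap V) O
  have hmemO : ∀ a, a ∈ qMap V ⁻¹ᵁ O ↔ V.1.ι a ∈ U.1 := fun a => Set.ext_iff.1 hpre a
  have hr : Set.range ((qMap V ⁻¹ᵁ O).ι ≫ V.1.ι) ⊆ Set.range U.1.ι := by
    rw [Scheme.Opens.range_ι]
    rintro _ ⟨a, rfl⟩
    exact (hmemO _).1 a.2
  let k₁ : (qMap V ⁻¹ᵁ O).toScheme ⟶ U.1.toScheme := IsOpenImmersion.lift U.1.ι ((qMap V ⁻¹ᵁ O).ι ≫ V.1.ι) hr
  have hk₁ : k₁ ≫ U.1.ι = (qMap V ⁻¹ᵁ O).ι ≫ V.1.ι := IsOpenImmersion.lift_fac _ _ _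
  have hr2 : Set.range (X.homOfLE h) ⊆ Set.range (qMap V ⁻¹ᵁ O).ι := by
    rw [Scheme.Opens.range_ι]
    rintro _ ⟨a, rfl⟩
    refine (hmemO _).2 ?_
    rw [← Scheme.Hom.comp_apply, Scheme.homOfLE_ι]
    exact a.2
  let k₂ : U.1.toScheme ⟶ (qMap V ⁻¹ᵁ O).toScheme := IsOpenImmersion.lift (qMap V ⁻¹ᵁ O).ι (X.homOfLE h) hr2
  have hk₂ : k₂ ≫ (qMap V ⁻¹ᵁ O).ι = X.homOfLE h := IsOpenImmersion.lift_fac _ _ _
  let σ := restrictAut (restrictAut ρ V.1 V.2.2) (qMap V ⁻¹ᵁ O)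
    (fun g => SGA1.preimage_le_of_inv _ _ (isQuot_qMap V).inv g O)
  have hσ₁ : ∀ g, (σ g).hom ≫ k₁ = k₁ ≫ (restrictAut ρ U.1 U.2.2 g).hom := fun g => by
    rw [← cancel_mono U.1.ι, Category.assoc, Category.assoc, hk₁, restrictAut_hom_ι, reassoc_of% hk₁,
      ← Category.assoc, restrictAut_hom_ι, Category.assoc, restrictAut_hom_ι]
  have hσ₂ : ∀ g, (restrictAut ρ U.1 U.2.2 g).hom ≫ k₂ = k₂ ≫ (σ g).hom := fun g => by
    rw [← cancel_mono (qMap V ⁻¹ᵁ O).ι, Category.assoc, Category.assoc, hk₂, restrictAut_hom_ι, reassoc_of% hk₂,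
      restrictAut_homOfLE]
  let d₁ : O.toScheme ⟶ QObj U := desc hq (k₁ ≫ qMap U) (fun g => by
    rw [← Category.assoc, hσ₁, Category.assoc, (isQuot_qMap U).inv g])
  have hd₁ : (qMap V ∣_ O) ≫ d₁ = k₁ ≫ qMap U := comp_desc hq _ _
  let d₂ : QObj U ⟶ O.toScheme := desc (isQuot_qMap U) (k₂ ≫ (qMap V ∣_ O)) (fun g => by
    rw [← Category.assoc, hσ₂, Category.assoc, hq.inv g])
  have hd₂ : qMap U ≫ d₂ = k₂ ≫ (qMap V ∣_ O) := comp_desc (isQuot_qMap U) _ _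
  have h12 : k₂ ≫ k₁ = 𝟙 _ := by
    rw [← cancel_mono U.1.ι, Category.assoc, hk₁, reassoc_of% hk₂, Scheme.homOfLE_ι, Category.id_comp]
  have h21 : k₁ ≫ k₂ = 𝟙 _ := by
    rw [← cancel_mono (qMap V ⁻¹ᵁ O).ι, Category.assoc, hk₂, Category.id_comp, ← cancel_mono V.1.ι,
      Category.assoc, Scheme.homOfLE_ι, hk₁]
  haveI : IsIso d₂ := ⟨d₁, eq_of_comp_eq (isQuot_qMap U) (by
      rw [← Category.assoc, hd₂, Category.assoc, hd₁, ← Category.assoc, h12, Category.id_comp, Category.comp_id]),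
    eq_of_comp_eq hq (by
      rw [← Category.assoc, hd₁, Category.assoc, hd₂, ← Category.assoc, h21, Category.id_comp, Category.comp_id])⟩
  have hfac : mapHom h = d₂ ≫ O.ι := eq_of_comp_eq (isQuot_qMap U) (by
    rw [qMap_mapHom, ← Category.assoc, hd₂, Category.assoc, morphismRestrict_ι, reassoc_of% hk₂])
  rw [hfac]
  infer_instance

instance {U V : InvAff ρ} (f : U ⟶ V) : IsOpenImmersion ((diagram ρ).map f) := isOpenImmersion_mapHom (leOfHom f)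

variable (ρ) in
theorem isLocallyDirected (h : ∀ x : X, ∃ U : X.Opens, IsAffineOpen U ∧ ∀ g : G, (ρ g).hom.base x ∈ U) :
    ((diagram ρ) ⋙ Scheme.forget).IsLocallyDirected := by
  refine ⟨fun {U V W} fU fV y z e => ?_⟩
  obtain ⟨a, rfl⟩ := surjective (isQuot_qMap U) y
  obtain ⟨b, rfl⟩ := surjective (isQuot_qMap V) z
  have e' : qMap W (X.homOfLE (leOfHom fU) a) = qMap W (X.homOfLE (leOfHom fV) b) := by
    rw [← Scheme.Hom.comp_apply, ← Scheme.Hom.comp_apply, ← qMap_mapHom, ← qMap_mapHom]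
    exact e
  obtain ⟨g, hg⟩ := qMap_fiber e'
  rw [← Scheme.Hom.comp_apply _ W.1.ι, ← Scheme.Hom.comp_apply _ W.1.ι, Scheme.homOfLE_ι, Scheme.homOfLE_ι] at hg
  have hbU : V.1.ι b ∈ U.1 := hg ▸ U.2.2 g a.2
  obtain ⟨L, hL, hLinv, hxL, hLle⟩ := exists_invariant_affine ρ h (V.1.ι b) (U.1 ⊓ V.1)
    fun g => ⟨U.2.2 g hbU, V.2.2 g b.2⟩
  have hbL : V.1.ι b ∈ L := by
    have := hxL 1
    rw [map_one] at this
    exact this
  let l : InvAff ρ := ⟨L, hL, hLinv⟩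
  obtain ⟨c, hc⟩ : ∃ c : l.1.toScheme, l.1.ι c = V.1.ι b := ⟨⟨_, hbL⟩, rfl⟩
  refine ⟨l, homOfLE (hLle.trans inf_le_left), homOfLE (hLle.trans inf_le_right), qMap l c, ?_, ?_⟩
  · show mapHom _ (qMap l c) = qMap U a
    rw [← Scheme.Hom.comp_apply, qMap_mapHom, Scheme.Hom.comp_apply, base_eq_iff (isQuot_qMap U)]
    refine ⟨g⁻¹, U.1.ι.isOpenEmbedding.injective ?_⟩
    rw [← Scheme.Hom.comp_apply, restrictAut_hom_ι, Scheme.Hom.comp_apply, ← Scheme.Hom.comp_apply _ U.1.ι,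
      Scheme.homOfLE_ι, hc, ← hg, ← Scheme.Hom.comp_apply, show (ρ g).hom ≫ (ρ g⁻¹).hom = (ρ g⁻¹ * ρ g).hom from rfl,
      ← map_mul, inv_mul_cancel, map_one]
    rfl
  · show mapHom _ (qMap l c) = qMap V b
    rw [← Scheme.Hom.comp_apply, qMap_mapHom, Scheme.Hom.comp_apply]
    congr 1
    refine V.1.ι.isOpenEmbedding.injective ?_
    rw [← Scheme.Hom.comp_apply, Scheme.homOfLE_ι, hc]

end Groth.Agent.QuotLib
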