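import Groth.Agent.QuotLib.Exists

/-! Gluing the affine quotients. -/

set_option autoImplicit false
universe u
open CategoryTheory CategoryTheory.Limits AlgebraicGeometry Opposite TopologicalSpace

noncomputable section

namespace Groth.Agent.QuotLib

variable {X : Scheme.{u}} {G : Type u} [Group G] [Finite G] {ρ : G →* Aut X}

/-- A quotient may be checked on an open of the base through an isomorphic model. -/
theorem app_bij_of_factor {Y Q : Scheme.{u}} {p : X ⟶ Y} (hinv : ∀ g : G, (ρ g).hom ≫ p = p) {U : InvAff ρ}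
    (q : U.1.toScheme ⟶ Q) (hq : SGA1.IsQuot (restrictAut ρ U.1 U.2.2) q) (j : Q ⟶ Y) [IsOpenImmersion j]
    (hfac : q ≫ j = U.1.ι ≫ p) (hpre : p ⁻¹ᵁ j.opensRange = U.1) (V : Y.Opens) (hV : V ≤ j.opensRange) :
    Function.Injective (p.app V).hom ∧ ∀ s : Γ(X, p ⁻¹ᵁ V),
      (∀ g : G, ((ρ g).hom.appLE _ _ (SGA1.preimage_le_of_inv ρ p hinv g V)).hom s = s) →
        ∃ t, (p.app V).hom t = s := by
  let W : Q.Opens := j ⁻¹ᵁ V
  have hle : p ⁻¹ᵁ V ≤ U.1 := fun x hx => hpre.le (hV hx)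
  have hW : U.1.ι ''ᵁ (q ⁻¹ᵁ W) = p ⁻¹ᵁ V := by
    refine Opens.ext (Set.ext fun x => ⟨?_, fun hx => ?_⟩)
    · rintro ⟨a, ha, rfl⟩
      show p (U.1.ι a) ∈ V
      rw [← Scheme.Hom.comp_apply, ← hfac, Scheme.Hom.comp_apply]
      exact ha
    · refine ⟨⟨x, hle hx⟩, ?_, rfl⟩
      show j (q ⟨x, hle hx⟩) ∈ V
      rw [← Scheme.Hom.comp_apply, hfac]
      exact hx
  let e : Γ(X, p ⁻¹ᵁ V) ⟶ Γ(U.1.toScheme, q ⁻¹ᵁ W) := X.presheaf.map (eqToHom hW).op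
  have hsq : j.app V ≫ q.app W = p.app V ≫ e := by
    have h3 : ∀ (k : U.1.toScheme ⟶ Y) (hk : k = U.1.ι ≫ p) (h1 : q ⁻¹ᵁ W ≤ k ⁻¹ᵁ V)
        (h2 : q ⁻¹ᵁ W ≤ (U.1.ι ≫ p) ⁻¹ᵁ V), k.appLE V _ h1 = (U.1.ι ≫ p).appLE V _ h2 := by
      rintro k rfl h1 h2; rfl
    have h1 := h3 (q ≫ j) hfac le_rfl (by rw [← hfac]; rfl)
    rw [← Scheme.Hom.appLE_comp_appLE q j V W _ le_rfl le_rfl, ← Scheme.Hom.appLE_comp_appLE U.1.ι p V (p ⁻¹ᵁ V) _
      le_rfl (by intro a ha; exact hW.le ⟨a, ha, rfl⟩), Scheme.Hom.appLE_eq_app, Scheme.Hom.appLE_eq_app,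
      Scheme.Hom.appLE_eq_app, Scheme.Opens.ι_appLE] at h1
    exact h1
  haveI : IsIso (j.app V) := j.isIso_app V hV
  haveI : IsIso e := by
    haveI : IsIso (eqToHom hW).op := inferInstance
    exact CategoryTheory.Functor.map_isIso X.presheaf (eqToHom hW).op
  have hj := ConcreteCategory.bijective_of_isIso (j.app V)
  have he := ConcreteCategory.bijective_of_isIso e
  have hsq' : ∀ t, (q.app W).hom ((j.app V).hom t) = e.hom ((p.app V).hom t) :=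
    fun t => congrArg (fun φ : _ ⟶ _ => CommRingCat.Hom.hom φ t) hsq
  refine ⟨fun a b hab => hj.1 (hq.injective W ?_), fun s hs => ?_⟩
  · rw [hsq', hsq', hab]
  · obtain ⟨t', ht'⟩ := (hq.range_iff W (e.hom s)).2 fun g => by
      have hc : ∀ (k : X ⟶ X) (hk : U.1 ≤ k ⁻¹ᵁ U.1) (h1 : p ⁻¹ᵁ V ≤ k ⁻¹ᵁ (p ⁻¹ᵁ V))
          (h2 : q ⁻¹ᵁ W ≤ k.resLE U.1 U.1 hk ⁻¹ᵁ (q ⁻¹ᵁ W)),
          e ≫ (k.resLE U.1 U.1 hk).appLE _ _ h2 = k.appLE _ _ h1 ≫ e := fun k hk h1 h2 => by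
        rw [Scheme.Hom.resLE_appLE]
        exact (Scheme.Hom.map_appLE _ _ _).trans (Scheme.Hom.appLE_map _ _ _).symm
      exact (congrArg (fun φ : _ ⟶ _ => CommRingCat.Hom.hom φ s) (hc (ρ g).hom (U.2.2 g)
        (SGA1.preimage_le_of_inv ρ p hinv g V) (SGA1.preimage_le_of_inv _ _ hq.inv g W))).trans
        (congrArg e.hom (hs g))
    obtain ⟨t, rfl⟩ := hj.2 t'
    exact ⟨t, he.1 ((hsq' t).symm.trans ht')⟩

variable (ρ) in
/-- Quotients exist when every orbit lies in an affine open. -/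
theorem exists_isQuot (h : ∀ x : X, ∃ U : X.Opens, IsAffineOpen U ∧ ∀ g : G, (ρ g).hom.base x ∈ U) :
    ∃ (Y : Scheme.{u}) (p : X ⟶ Y), SGA1.IsQuot ρ p := by
  haveI := isLocallyDirected ρ h
  let Y := colimit (diagram ρ)
  let F : (U : InvAff ρ) → (U.1.toScheme ⟶ Y) := fun U => qMap U ≫ colimit.ι (diagram ρ) U
  have hFle : ∀ {L U : InvAff ρ} (hLU : L.1 ≤ U.1), X.homOfLE hLU ≫ F U = F L := fun {L U} hLU => by
    simp only [F]
    rw [← Category.assoc, ← qMap_mapHom, Category.assoc]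
    exact congrArg (qMap L ≫ ·) (colimit.w (diagram ρ) (homOfLE hLU))
  have hcov : iSup (fun U : InvAff ρ => U.1) = ⊤ := eq_top_iff.2 fun x _ => by
    obtain ⟨L, hL, hLinv, hxL, -⟩ := exists_invariant_affine ρ h x ⊤ fun g => trivial
    refine Opens.mem_iSup.2 ⟨⟨L, hL, hLinv⟩, ?_⟩
    have := hxL 1
    rw [map_one] at this
    exact this
  let 𝒰 := X.openCoverOfIsOpenCover (fun U : InvAff ρ => U.1) hcov
  have hagree : ∀ U V : InvAff ρ, pullback.fst U.1.ι V.1.ι ≫ F U = pullback.snd U.1.ι V.1.ι ≫ F V := by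
    intro U V
    let P := pullback U.1.ι V.1.ι
    let a : P ⟶ X := pullback.fst U.1.ι V.1.ι ≫ U.1.ι
    let I := {L : InvAff ρ // L.1 ≤ U.1 ∧ L.1 ≤ V.1}
    have hI : iSup (fun L : I => a ⁻¹ᵁ L.1.1) = ⊤ := eq_top_iff.2 fun z _ => by
      have hzU : a z ∈ U.1 := (pullback.fst U.1.ι V.1.ι z).2
      have hzV : a z ∈ V.1 := by
        simp only [a]
        rw [pullback.condition]
        exact (pullback.snd U.1.ι V.1.ι z).2
      obtain ⟨L, hL, hLinv, hxL, hLle⟩ := exists_invariant_affine ρ h (a z) (U.1 ⊓ V.1)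
        fun g => ⟨U.2.2 g hzU, V.2.2 g hzV⟩
      refine Opens.mem_iSup.2 ⟨⟨⟨L, hL, hLinv⟩, hLle.trans inf_le_left, hLle.trans inf_le_right⟩, ?_⟩
      have := hxL 1
      rw [map_one] at this
      exact this
    refine Scheme.Cover.hom_ext (P.openCoverOfIsOpenCover (fun L : I => a ⁻¹ᵁ L.1.1) hI) _ _ fun L => ?_
    let L' : I := L
    show (a ⁻¹ᵁ L'.1.1).ι ≫ pullback.fst _ _ ≫ F U = (a ⁻¹ᵁ L'.1.1).ι ≫ pullback.snd _ _ ≫ F V
    let t : (a ⁻¹ᵁ L'.1.1).toScheme ⟶ L'.1.1.toScheme := a ∣_ L'.1.1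
    have ht : t ≫ L'.1.1.ι = (a ⁻¹ᵁ L'.1.1).ι ≫ a := morphismRestrict_ι _ _
    have e1 : (a ⁻¹ᵁ L'.1.1).ι ≫ pullback.fst U.1.ι V.1.ι = t ≫ X.homOfLE L'.2.1 := by
      rw [← cancel_mono U.1.ι, Category.assoc, Category.assoc, Scheme.homOfLE_ι, ht]
    have e2 : (a ⁻¹ᵁ L'.1.1).ι ≫ pullback.snd U.1.ι V.1.ι = t ≫ X.homOfLE L'.2.2 := by
      rw [← cancel_mono V.1.ι, Category.assoc, Category.assoc, Scheme.homOfLE_ι, ht, ← pullback.condition]
    rw [reassoc_of% e1, reassoc_of% e2, hFle, hFle]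
  let p : X ⟶ Y := 𝒰.glueMorphisms F hagree
  have hp : ∀ U : InvAff ρ, U.1.ι ≫ p = F U := fun U => 𝒰.ι_glueMorphisms F hagree U
  have hinv : ∀ g : G, (ρ g).hom ≫ p = p := fun g => by
    refine Scheme.Cover.hom_ext 𝒰 _ _ fun U => ?_
    show U.1.ι ≫ (ρ g).hom ≫ p = U.1.ι ≫ p
    rw [← Category.assoc, ← restrictAut_hom_ι ρ U.1 U.2.2, Category.assoc, hp]
    simp only [F]
    rw [← Category.assoc, (isQuot_qMap U).inv g]
  have hpre : ∀ U : InvAff ρ, p ⁻¹ᵁ (colimit.ι (diagram ρ) U).opensRange = U.1 := fun U => by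
    refine Opens.ext (Set.ext fun x => ⟨?_, fun hx => ?_⟩)
    · rintro ⟨y, hy⟩
      obtain ⟨V, hV⟩ := Opens.mem_iSup.1 (show x ∈ iSup (fun V : InvAff ρ => V.1) from hcov ▸ trivial)
      obtain ⟨xv, rfl⟩ : ∃ xv : V.1.toScheme, V.1.ι xv = x := ⟨⟨x, hV⟩, rfl⟩
      rw [← Scheme.Hom.comp_apply, hp] at hy
      obtain ⟨k, fi, fj, z, -, hz⟩ := (Scheme.IsLocallyDirected.ι_eq_ι_iff (diagram ρ)).1
        (show colimit.ι (diagram ρ) U y = colimit.ι (diagram ρ) V (qMap V xv) from hy)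
      obtain ⟨c, rfl⟩ := surjective (isQuot_qMap k) z
      change mapHom (leOfHom fj) (qMap k c) = qMap V xv at hz
      rw [← Scheme.Hom.comp_apply, qMap_mapHom, Scheme.Hom.comp_apply] at hz
      obtain ⟨g, hg⟩ := qMap_fiber hz
      rw [← Scheme.Hom.comp_apply _ V.1.ι, Scheme.homOfLE_ι] at hg
      exact hg ▸ (leOfHom fi) (k.2.2 g c.2)
    · refine ⟨qMap U ⟨x, hx⟩, ?_⟩
      show (F U) ⟨x, hx⟩ = p x
      rw [← hp U]
      rfl
  have hcovY : iSup (fun U : InvAff ρ => (colimit.ι (diagram ρ) U).opensRange) = ⊤ := eq_top_iff.2 fun y _ => by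
    obtain ⟨U, yU, rfl⟩ := Scheme.IsLocallyDirected.ι_jointly_surjective (diagram ρ) y
    exact Opens.mem_iSup.2 ⟨U, yU, rfl⟩
  haveI : IsAffineHom p := isAffineHom_of_forall_exists_isAffineOpen p fun y => by
    obtain ⟨U, hU⟩ := Opens.mem_iSup.1 (show y ∈ iSup (fun U : InvAff ρ =>
      (colimit.ι (diagram ρ) U).opensRange) from hcovY ▸ trivial)
    haveI : IsAffine ((diagram ρ).obj U) :=
      (@exists_isQuot_of_isAffine _ G _ _ (restrictAut ρ U.1 U.2.2) U.2.1).choose_spec.choose_spec.1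
    exact ⟨_, hU, isAffineOpen_opensRange _, hpre U ▸ U.2.1⟩
  refine ⟨Y, p, isQuot_of_basis hinv {V | ∃ U : InvAff ρ, V ≤ (colimit.ι (diagram ρ) U).opensRange} ?_ ?_ ?_⟩
  · refine Opens.isBasis_iff_nbhd.2 fun {W} {y} hy => ?_
    obtain ⟨U, hU⟩ := Opens.mem_iSup.1 (show y ∈ iSup (fun U : InvAff ρ =>
      (colimit.ι (diagram ρ) U).opensRange) from hcovY ▸ trivial)
    exact ⟨W ⊓ (colimit.ι (diagram ρ) U).opensRange, ⟨U, inf_le_right⟩, ⟨hy, hU⟩, inf_le_left⟩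
  · rintro V ⟨U, hU⟩
    exact (app_bij_of_factor (Q := (diagram ρ).obj U) hinv (qMap U) (isQuot_qMap U) (colimit.ι (diagram ρ) U) (hp U).symm (hpre U) V hU).1
  · rintro V ⟨U, hU⟩
    exact (app_bij_of_factor (Q := (diagram ρ).obj U) hinv (qMap U) (isQuot_qMap U) (colimit.ι (diagram ρ) U) (hp U).symm (hpre U) V hU).2

end Groth.Agent.QuotLib
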