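import Groth.Agent.QuotLib.AffineQuot

/-! Properties of quotients by finite groups relative to a base. -/

set_option autoImplicit false
universe u
open CategoryTheory CategoryTheory.Limits AlgebraicGeometry Opposite TopologicalSpace

noncomputable section

namespace Groth.Agent.QuotLib

variable {X Y Z : Scheme.{u}} {G : Type u} [Group G] [Finite G] {ρ : G →* Aut X} {p : X ⟶ Y}

theorem isAffine_of_isQuot (hp : SGA1.IsQuot ρ p) [IsAffine X] : IsAffine Y := by
  obtain ⟨Q, q, hQ, hq⟩ := exists_isQuot_of_isAffine ρ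
  haveI : IsIso (desc hp q hq.inv) := ⟨desc hq p hp.inv,
    eq_of_comp_eq hp (by rw [← Category.assoc, comp_desc, comp_desc, Category.comp_id]),
    eq_of_comp_eq hq (by rw [← Category.assoc, comp_desc, comp_desc, Category.comp_id])⟩
  exact IsAffine.of_isIso (desc hp q hq.inv)

theorem isAffineHom_iff (hp : SGA1.IsQuot ρ p) (q : Y ⟶ Z) : IsAffineHom (p ≫ q) ↔ IsAffineHom q := by
  haveI := hp.affine
  refine ⟨fun h => ⟨fun W hW => ?_⟩, fun h => inferInstance⟩
  have hU : IsAffineOpen (p ⁻¹ᵁ (q ⁻¹ᵁ W)) := h.isAffine_preimage W hW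
  haveI : IsAffine (p ⁻¹ᵁ (q ⁻¹ᵁ W)).toScheme := hU
  exact isAffine_of_isQuot (isQuot_restrict hp (q ⁻¹ᵁ W))

theorem isSeparated_iff (hp : SGA1.IsQuot ρ p) (q : Y ⟶ Z) : IsSeparated (p ≫ q) ↔ IsSeparated q := by
  haveI := hp.affine
  refine ⟨fun h => ⟨?_⟩, fun h => inferInstance⟩
  refine IsClosedImmersion.of_isPreimmersion _ ?_
  haveI := isIntegralHom hp
  let m := pullback.map (p ≫ q) (p ≫ q) q q p p (𝟙 Z) (Category.comp_id _) (Category.comp_id _)
  haveI : UniversallyClosed m :=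
    MorphismProperty.pullbackMap (P := @UniversallyClosed) (i₁ := p) (i₂ := p) inferInstance inferInstance rfl rfl
  have hm : pullback.diagonal (p ≫ q) ≫ m = p ≫ pullback.diagonal q := by
    apply pullback.hom_ext
    · rw [Category.assoc, show m ≫ pullback.fst q q = pullback.fst _ _ ≫ p from pullback.lift_fst _ _ _,
        ← Category.assoc, pullback.diagonal_fst, Category.assoc, pullback.diagonal_fst, Category.id_comp]
      exact (Category.comp_id p).symm
    · rw [Category.assoc, show m ≫ pullback.snd q q = pullback.snd _ _ ≫ p from pullback.lift_snd _ _ _,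
        ← Category.assoc, pullback.diagonal_snd, Category.assoc, pullback.diagonal_snd, Category.id_comp]
      exact (Category.comp_id p).symm
  have hr : Set.range (pullback.diagonal q) = m '' Set.range (pullback.diagonal (p ≫ q)) := by
    rw [← Set.range_comp]
    refine Set.ext fun z => ⟨?_, ?_⟩
    · rintro ⟨y, rfl⟩
      obtain ⟨x, rfl⟩ := surjective hp y
      exact ⟨x, congrArg (fun k : X ⟶ _ => k.base x) hm⟩
    · rintro ⟨x, rfl⟩
      exact ⟨p x, (congrArg (fun k : X ⟶ _ => k.base x) hm).symm⟩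
  rw [hr]
  exact m.isClosedMap _ (pullback.diagonal (p ≫ q)).isClosedEmbedding.isClosed_range

theorem isFinite (hp : SGA1.IsQuot ρ p) (q : Y ⟶ Z) [LocallyOfFiniteType (p ≫ q)] : IsFinite p :=
  (IsFinite.iff_isIntegralHom_and_locallyOfFiniteType p).2 ⟨isIntegralHom hp, locallyOfFiniteType_of_comp p q⟩

theorem quasiCompact (hp : SGA1.IsQuot ρ p) (q : Y ⟶ Z) [QuasiCompact (p ≫ q)] : QuasiCompact q := by
  refine ⟨fun U hU hc => ?_⟩
  have := ((QuasiCompact.isCompact_preimage (f := p ≫ q) U hU hc)).image p.continuous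
  rwa [Scheme.Hom.comp_base, TopCat.coe_comp, Set.preimage_comp,
    Set.image_preimage_eq _ (surjective hp)] at this

theorem locallyOfFiniteType (hp : SGA1.IsQuot ρ p) (q : Y ⟶ Z) [IsLocallyNoetherian Z]
    [LocallyOfFiniteType (p ≫ q)] : LocallyOfFiniteType q := by
  haveI := hp.affine
  haveI := isFinite hp q
  refine ⟨fun {W} hW {V} hV e => ?_⟩
  have hU : IsAffineOpen (p ⁻¹ᵁ V) := hV.preimage p
  haveI : IsNoetherianRing Γ(Z, W) := IsLocallyNoetherian.component_noetherian ⟨W, hW⟩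
  have h1 : ((p ≫ q).appLE W (p ⁻¹ᵁ V) (fun x hx => e hx)).hom.FiniteType :=
    LocallyOfFiniteType.finiteType_appLE (p ≫ q) hW hU _
  have hc : (p ≫ q).appLE W (p ⁻¹ᵁ V) (fun x hx => e hx) = q.appLE W V e ≫ p.app V := by
    rw [← Scheme.Hom.appLE_eq_app, Scheme.Hom.appLE_comp_appLE]
  rw [hc] at h1
  letI := (q.appLE W V e).hom.toAlgebra
  letI := (p.app V).hom.toAlgebra
  letI := (q.appLE W V e ≫ p.app V).hom.toAlgebra
  haveI : IsScalarTower Γ(Z, W) Γ(Y, V) Γ(X, p ⁻¹ᵁ V) := IsScalarTower.of_algebraMap_eq fun _ => rfl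
  haveI hft : Algebra.FiniteType Γ(Z, W) Γ(X, p ⁻¹ᵁ V) := h1
  haveI hfin : Module.Finite Γ(Y, V) Γ(X, p ⁻¹ᵁ V) := IsFinite.finite_app p V hV
  exact ⟨fg_of_fg_of_fg Γ(Z, W) Γ(Y, V) Γ(X, p ⁻¹ᵁ V) hft.out hfin.fg_top (hp.injective V)⟩

end Groth.Agent.QuotLib
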