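import Groth.Agent.QuotLib.Free
import Groth.Agent.QuotLib.Props
import Groth.Agent.UnivHomeo.Basic

/-! Lifting geometric points along integral surjections; universal homeomorphisms out of quotients. -/

set_option autoImplicit false
universe u
open CategoryTheory CategoryTheory.Limits AlgebraicGeometry Opposite TopologicalSpace

noncomputable section

namespace Groth.Agent.QuotLib

variable {X Y : Scheme.{u}}

theorem isIntegral_residueFieldMap' (p : X ⟶ Y) [IsIntegralHom p] (x : X) :
    (p.residueFieldMap x).hom.IsIntegral := by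
  obtain ⟨_, ⟨V, hV, rfl⟩, hy, -⟩ :=
    Y.isBasis_affineOpens.exists_subset_of_mem_open (Set.mem_univ (p x)) isOpen_univ
  have hU : IsAffineOpen (p ⁻¹ᵁ V) := hV.preimage p
  have hx : x ∈ p ⁻¹ᵁ V := hy
  letI := (p.residueFieldMap x).hom.toAlgebra
  have hev : ∀ b : Γ(X, p ⁻¹ᵁ V), IsIntegral (Y.residueField (p x)) ((X.evaluation _ x hx).hom b) := fun b => by
    obtain ⟨P, hmonic, hP⟩ := IsIntegralHom.isIntegral_app p V hV b
    refine ⟨P.map (Y.evaluation V (p x) hy).hom, hmonic.map _, ?_⟩
    rw [Polynomial.eval₂_map, show (algebraMap (Y.residueField (p x)) (X.residueField x)).comp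
      (Y.evaluation V (p x) hy).hom = (X.evaluation _ x hx).hom.comp (p.app V).hom from
      congrArg CommRingCat.Hom.hom (Scheme.evaluation_naturality p x hy), ← Polynomial.hom_eval₂, hP, map_zero]
  intro z
  obtain ⟨z, rfl⟩ := IsLocalRing.residue_surjective z
  letI := X.presheaf.algebra_section_stalk ⟨x, hx⟩
  haveI := hU.isLocalization_stalk ⟨x, hx⟩
  obtain ⟨⟨b, c⟩, hbc⟩ := IsLocalization.surj (hU.primeIdealOf ⟨x, hx⟩).asIdeal.primeCompl z
  have h := congrArg (IsLocalRing.residue (X.presheaf.stalk x)) hbc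
  rw [map_mul] at h
  have hc : IsLocalRing.residue (X.presheaf.stalk x) (algebraMap _ _ (c : Γ(X, p ⁻¹ᵁ V))) ≠ 0 :=
    ((IsLocalization.map_units (X.presheaf.stalk x) c).map _).ne_zero
  rw [(eq_mul_inv_iff_mul_eq₀ hc).2 h]
  exact (((hev b).isAlgebraic).mul ((hev c).isAlgebraic.inv)).isIntegral

/-- Geometric points lift along integral surjections. -/
theorem exists_lift_geom (p : X ⟶ Y) [IsIntegralHom p] [Surjective p] {K : Type u} [Field K] [IsAlgClosed K]
    (ω : Spec (CommRingCat.of K) ⟶ Y) : ∃ ξ : Spec (CommRingCat.of K) ⟶ X, ξ ≫ p = ω := by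
  obtain ⟨⟨y, φ⟩, rfl⟩ := (Scheme.SpecToEquivOfField K Y).symm.surjective ω
  obtain ⟨x, rfl⟩ := p.surjective y
  letI := (p.residueFieldMap x).hom.toAlgebra
  letI := φ.hom.toAlgebra
  haveI : Algebra.IsAlgebraic (Y.residueField (p x)) (X.residueField x) :=
    haveI : Algebra.IsIntegral (Y.residueField (p x)) (X.residueField x) :=
      ⟨fun z => isIntegral_residueFieldMap' p x z⟩
    inferInstance
  let ψ : X.residueField x →ₐ[Y.residueField (p x)] K := IsAlgClosed.lift
  refine ⟨Spec.map (CommRingCat.ofHom ψ.toRingHom) ≫ X.fromSpecResidueField x, ?_⟩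
  show (_ ≫ _) ≫ p = Spec.map φ ≫ Y.fromSpecResidueField (p x)
  rw [Category.assoc, ← Scheme.Hom.SpecMap_residueFieldMap_fromSpecResidueField, ← Category.assoc, ← Spec.map_comp]
  congr 2
  exact CommRingCat.hom_ext (RingHom.ext ψ.commutes)

theorem universallyInjective_of_geom (h : X ⟶ Y)
    (hinj : ∀ (K : Type u) [Field K] [IsAlgClosed K] (a b : Spec (CommRingCat.of K) ⟶ X),
      a ≫ h = b ≫ h → a = b) : UniversallyInjective h := by
  rw [UniversallyInjective.iff_diagonal]
  refine ⟨fun w => ?_⟩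
  obtain ⟨K, _, _, ω, hω⟩ := exists_geom_point w
  have e : ω ≫ pullback.fst h h = ω ≫ pullback.snd h h :=
    hinj K _ _ (by simp only [Category.assoc, pullback.condition])
  have e2 : (ω ≫ pullback.fst h h) ≫ pullback.diagonal h = ω := by
    apply pullback.hom_ext
    · simp only [Category.assoc, pullback.diagonal_fst, Category.comp_id]
    · simp only [Category.assoc, pullback.diagonal_snd, Category.comp_id]
      exact e
  exact ⟨(ω ≫ pullback.fst h h) (IsLocalRing.closedPoint _), by rw [← Scheme.Hom.comp_apply, e2, hω]⟩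

variable {Z : Scheme.{u}} {G : Type u} [Group G] [Finite G] {ρ : G →* Aut X}

theorem universallyInjective_of_quot {r : X ⟶ Y} (hr : SGA1.IsQuot ρ r) (m : Y ⟶ Z)
    (htr : ∀ (K : Type u) [Field K] [IsAlgClosed K] (a b : Spec (CommRingCat.of K) ⟶ X),
      a ≫ r ≫ m = b ≫ r ≫ m → ∃ g : G, a ≫ (ρ g).hom = b) : UniversallyInjective m := by
  haveI := isIntegralHom hr
  haveI : Surjective r := ⟨surjective hr⟩
  refine universallyInjective_of_geom m fun K _ _ a b hab => ?_
  obtain ⟨a, rfl⟩ := exists_lift_geom r a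
  obtain ⟨b, rfl⟩ := exists_lift_geom r b
  obtain ⟨g, rfl⟩ := htr K a b (by rw [← Category.assoc, ← Category.assoc]; exact hab)
  rw [Category.assoc, hr.inv g]

theorem isUnivHomeo_of_quot {r : X ⟶ Y} (hr : SGA1.IsQuot ρ r) (m : Y ⟶ Z)
    [IsIntegralHom (r ≫ m)] [Surjective (r ≫ m)]
    (htr : ∀ (K : Type u) [Field K] [IsAlgClosed K] (a b : Spec (CommRingCat.of K) ⟶ X),
      a ≫ r ≫ m = b ≫ r ≫ m → ∃ g : G, a ≫ (ρ g).hom = b) : FlatMor.IsUnivHomeo m := by
  haveI := isIntegralHom hr
  haveI : Surjective r := ⟨surjective hr⟩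
  haveI : IsAffineHom m := (isAffineHom_iff hr m).1 inferInstance
  haveI : UniversallyClosed m := UniversallyClosed.of_comp_surjective r m
  haveI : IsIntegralHom m := IsIntegralHom.iff_universallyClosed_and_isAffineHom.2 ⟨inferInstance, inferInstance⟩
  haveI : Surjective m := Surjective.of_comp r m
  haveI := universallyInjective_of_quot hr m htr
  exact Groth.Agent.UnivHomeo.of_isIntegralHom m

end Groth.Agent.QuotLib
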