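import Groth.Agent.QuotLib.Local
import Mathlib.AlgebraicGeometry.Morphisms.Flat
import Mathlib.RingTheory.IsTensorProduct

/-! Quotients by a finite group of invertible order commute with arbitrary base change. -/

set_option autoImplicit false
set_option backward.isDefEq.respectTransparency false
set_option backward.isDefEq.respectTransparency.types false
universe u
open CategoryTheory CategoryTheory.Limits AlgebraicGeometry Opposite TopologicalSpace

noncomputable section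

namespace Groth.Agent.QuotLib

section algebra

variable {B B' A A' : Type u} [CommRing B] [CommRing B'] [CommRing A] [CommRing A']
  [Algebra B B'] [Algebra B A] [Algebra B' A'] [Algebra A A'] [Algebra B A']
  [IsScalarTower B B' A'] [IsScalarTower B A A'] [Algebra.IsPushout B B' A A']
  {G : Type*} [Fintype G] (σ : G → A →+* A) (τ : G → A' →+* A')

theorem reynolds_baseChange (hτ : ∀ g a, τ g (algebraMap A A' a) = algebraMap A A' (σ g a))
    (hτB : ∀ g b, τ g (algebraMap B' A' b) = algebraMap B' A' b)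
    (hσB : ∀ g b, σ g (algebraMap B A b) = algebraMap B A b)
    (hn : IsUnit (Fintype.card G : B)) (hinj : Function.Injective (algebraMap B A))
    (hsum : ∀ a, ∃ b, algebraMap B A b = ∑ g, σ g a) :
    Function.Injective (algebraMap B' A') ∧
      ∀ s, (∀ g, τ g s = s) → ∃ b, algebraMap B' A' b = s := by
  have hbc : IsBaseChange B' (IsScalarTower.toAlgHom B A A').toLinearMap :=
    ‹Algebra.IsPushout B B' A A'›.out
  obtain ⟨c, hc⟩ := hn.exists_left_inv
  choose w hw using hsum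
  let r : A →ₗ[B] B :=
    { toFun := fun a => c * w a
      map_add' := fun a a' => hinj (by simp only [map_mul, map_add, hw, Finset.sum_add_distrib, mul_add])
      map_smul' := fun b a => hinj (by
        simp only [map_mul, hw, Algebra.smul_def, RingHom.id_apply, Algebra.algebraMap_self, hσB, ← Finset.mul_sum]
        ring) }
  have hr1 : r 1 = 1 := hinj (by
    simp only [r, LinearMap.coe_mk, AddHom.coe_mk, map_mul, hw, map_one, Finset.sum_const, Finset.card_univ,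
      nsmul_one]
    rw [← map_natCast (algebraMap B A), ← map_mul, hc, map_one])
  let R : A' →ₗ[B'] B' := hbc.lift ((Algebra.linearMap B B').comp r)
  have hR : ∀ b, R (algebraMap B' A' b) = b := fun b => by
    have h1 : R 1 = 1 := by
      have := hbc.lift_eq ((Algebra.linearMap B B').comp r) 1
      simpa [hr1] using this
    rw [Algebra.algebraMap_eq_smul_one, map_smul, h1, smul_eq_mul, mul_one]
  refine ⟨Function.LeftInverse.injective hR, fun s hs => ?_⟩
  have key : ∀ x : A', ∃ b, algebraMap B' A' b = ∑ g, τ g x := fun x => by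
    refine hbc.inductionOn x (fun x => ∃ b, algebraMap B' A' b = ∑ g, τ g x) ⟨0, by simp⟩
      (fun a => ⟨algebraMap B B' (w a), ?_⟩) (fun b y ⟨b₁, hb₁⟩ => ⟨b * b₁, ?_⟩)
      (fun y z ⟨b₁, h₁⟩ ⟨b₂, h₂⟩ => ⟨b₁ + b₂, by simp only [map_add, h₁, h₂, Finset.sum_add_distrib]⟩)
    · simp only [AlgHom.toLinearMap_apply, IsScalarTower.coe_toAlgHom', hτ, ← map_sum, ← hw]
      rw [← IsScalarTower.algebraMap_apply, ← IsScalarTower.algebraMap_apply]
    · simp only [map_mul, hb₁, Algebra.smul_def, hτB, Finset.mul_sum]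
  obtain ⟨b, hb⟩ := key s
  refine ⟨algebraMap B B' c * b, ?_⟩
  rw [map_mul, hb, Finset.sum_congr rfl fun g _ => hs g, Finset.sum_const, Finset.card_univ, nsmul_eq_mul,
    ← map_natCast (algebraMap B' A'), ← map_natCast (algebraMap B B'), ← mul_assoc, ← map_mul, ← map_mul, hc,
    map_one, map_one, one_mul]

end algebra

variable {G : Type u} [Group G] [Finite G]

theorem isUnit_natCast_app {Y : Scheme.{u}} {n : ℕ} (hn : IsUnit (n : Γ(Y, ⊤))) (V : Y.Opens) :
    IsUnit (n : Γ(Y, V)) := by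
  have := hn.map (Y.presheaf.map (homOfLE le_top : V ⟶ ⊤).op).hom
  rwa [map_natCast] at this

/-- A quotient by a finite group of invertible order stays a quotient after any base change. -/
theorem isQuot_of_isPullback {X Y X' Y' : Scheme.{u}} {ρ : G →* Aut X} {p : X ⟶ Y} (hp : SGA1.IsQuot ρ p)
    {g : Y' ⟶ Y} {pX : X' ⟶ X} {p' : X' ⟶ Y'} (hc : IsPullback pX p' p g) (ρ' : G →* Aut X')
    (hρ₁ : ∀ a, (ρ' a).hom ≫ pX = pX ≫ (ρ a).hom) (hρ₂ : ∀ a, (ρ' a).hom ≫ p' = p')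
    (hn : IsUnit (Nat.card G : Γ(Y, ⊤))) : SGA1.IsQuot ρ' p' := by
  haveI := hp.affine
  haveI : IsAffineHom p' := MorphismProperty.of_isPullback hc hp.affine
  haveI := Fintype.ofFinite G
  let Bs : Set Y'.Opens := {U | IsAffineOpen U ∧ ∃ V : Y.Opens, IsAffineOpen V ∧ U ≤ g ⁻¹ᵁ V}
  refine isQuot_of_basis hρ₂ Bs (Opens.isBasis_iff_nbhd.2 fun {U y} hy => ?_) ?_ ?_
  · obtain ⟨_, ⟨V, hV, rfl⟩, hgy, -⟩ :=
      Y.isBasis_affineOpens.exists_subset_of_mem_open (Set.mem_univ (g y)) isOpen_univ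
    obtain ⟨_, ⟨U', hU', rfl⟩, hy', hle⟩ :=
      Y'.isBasis_affineOpens.exists_subset_of_mem_open (show y ∈ U ⊓ g ⁻¹ᵁ V from ⟨hy, hgy⟩) (U ⊓ g ⁻¹ᵁ V).2
    exact ⟨U', ⟨hU', V, hV, fun z hz => (hle hz).2⟩, hy', fun z hz => (hle hz).1⟩
  all_goals
    rintro U' ⟨hU', V, hV, e'⟩
    have hW : IsAffineOpen (p ⁻¹ᵁ V) := hV.preimage p
    have hUY : p' ⁻¹ᵁ U' = pX ⁻¹ᵁ (p ⁻¹ᵁ V) ⊓ p' ⁻¹ᵁ U' := by
      refine le_antisymm (le_inf ?_ le_rfl) inf_le_right
      rw [← Scheme.Hom.comp_preimage, hc.w, Scheme.Hom.comp_preimage]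
      exact fun z hz => e' hz
    have hX' : p' ⁻¹ᵁ U' ≤ pX ⁻¹ᵁ (p ⁻¹ᵁ V) := hUY.le.trans inf_le_left
    haveI := isIso_pushoutSection_of_isAffineOpen hc e' (le_refl (p ⁻¹ᵁ V)) hUY hV hU' hW
    have hpo := (isIso_pushoutSection_iff hc e' (le_refl (p ⁻¹ᵁ V)) hUY).mp inferInstance
    letI : Algebra Γ(Y, V) Γ(X, p ⁻¹ᵁ V) := (p.app V).hom.toAlgebra
    letI : Algebra Γ(Y, V) Γ(Y', U') := (g.appLE V U' e').hom.toAlgebra
    letI : Algebra Γ(X, p ⁻¹ᵁ V) Γ(X', p' ⁻¹ᵁ U') := (pX.appLE _ _ hX').hom.toAlgebra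
    letI : Algebra Γ(Y', U') Γ(X', p' ⁻¹ᵁ U') := (p'.app U').hom.toAlgebra
    letI : Algebra Γ(Y, V) Γ(X', p' ⁻¹ᵁ U') := (p.app V ≫ pX.appLE _ _ hX').hom.toAlgebra
    haveI : IsScalarTower Γ(Y, V) Γ(X, p ⁻¹ᵁ V) Γ(X', p' ⁻¹ᵁ U') := .of_algebraMap_eq' rfl
    haveI : IsScalarTower Γ(Y, V) Γ(Y', U') Γ(X', p' ⁻¹ᵁ U') := .of_algebraMap_eq' (by
      show (p.app V ≫ pX.appLE _ _ hX').hom = (g.appLE V U' e' ≫ p'.app U').hom
      rw [← Scheme.Hom.appLE_eq_app, ← Scheme.Hom.appLE_eq_app, Scheme.Hom.appLE_comp_appLE,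
        Scheme.Hom.appLE_comp_appLE]
      congr 2
      exact hc.w)
    haveI : Algebra.IsPushout Γ(Y, V) Γ(Y', U') Γ(X, p ⁻¹ᵁ V) Γ(X', p' ⁻¹ᵁ U') :=
      CommRingCat.isPushout_iff_isPushout.mp (by
        have h := hpo.flip
        simp only [Scheme.Hom.appLE_eq_app] at h
        exact h)
    have hsect : ∀ a (s : Γ(X, p ⁻¹ᵁ V)), ((ρ' a).hom.appLE _ _ (SGA1.preimage_le_of_inv ρ' p' hρ₂ a U')).hom
        ((pX.appLE _ _ hX').hom s) = (pX.appLE _ _ hX').hom (sect hp V a s) := fun a s => by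
      refine congrArg (fun φ : Γ(X, p ⁻¹ᵁ V) ⟶ Γ(X', p' ⁻¹ᵁ U') => φ.hom s)
        (a₁ := pX.appLE _ _ hX' ≫ (ρ' a).hom.appLE _ _ (SGA1.preimage_le_of_inv ρ' p' hρ₂ a U'))
        (a₂ := (ρ a).hom.appLE _ _ (SGA1.preimage_le_of_inv ρ p hp.inv a V) ≫ pX.appLE _ _ hX') ?_
      rw [Scheme.Hom.appLE_comp_appLE, Scheme.Hom.appLE_comp_appLE]
      congr 1
      exact hρ₁ a
    have hcore := reynolds_baseChange (B := Γ(Y, V)) (B' := Γ(Y', U')) (sect hp V)
      (fun a => ((ρ' a).hom.appLE _ _ (SGA1.preimage_le_of_inv ρ' p' hρ₂ a U')).hom) hsect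
      (fun a b => congrArg (fun φ : _ ⟶ _ => CommRingCat.Hom.hom φ b) (appLE_app hρ₂ a U'))
      (fun a b => congrArg (fun φ : _ ⟶ _ => CommRingCat.Hom.hom φ b) (appLE_app hp.inv a V))
      (by rw [← Nat.card_eq_fintype_card]; exact isUnit_natCast_app hn V) (hp.injective V)
      (fun s => (hp.range_iff V _).2 fun a => by
        refine (map_sum (sect hp V a) _ _).trans ?_
        simp only [← sect_mul hp V]
        exact Equiv.sum_comp (Equiv.mulRight a) fun b => sect hp V b s)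
  · exact hcore.1
  · exact hcore.2

end Groth.Agent.QuotLib
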