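import Groth.Prelude.Def_SGA1
import Mathlib

/-! Descending morphisms along a quotient map with injective maps on sections. -/

set_option autoImplicit false
universe u
open CategoryTheory CategoryTheory.Limits AlgebraicGeometry Opposite

noncomputable section

namespace Groth.Agent.QuotLib.DescGen

variable {X Y Z : Scheme.{u}} {p : X ⟶ Y}

/-- A quotient map, injective on sections, together with a description of the image on sections. -/
structure Data (p : X ⟶ Y) (R : ∀ U : Y.Opens, Γ(X, p ⁻¹ᵁ U) → Prop) : Prop where
  quotientMap : Topology.IsQuotientMap p.base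
  injective : ∀ U : Y.Opens, Function.Injective (p.app U).hom
  range : ∀ (U : Y.Opens) (s : Γ(X, p ⁻¹ᵁ U)), R U s → ∃ t, (p.app U).hom t = s

variable {R : ∀ U : Y.Opens, Γ(X, p ⁻¹ᵁ U) → Prop}

theorem Data.surjective (hp : Data p R) : Function.Surjective p.base := hp.quotientMap.surjective

variable (hp : Data p R) (h : X ⟶ Z)
  (hh : (∀ x x' : X, p.base x = p.base x' → h.base x = h.base x') ∧
    ∀ (W : Z.Opens) (U : Y.Opens) (e : p ⁻¹ᵁ U ≤ h ⁻¹ᵁ W) (s : Γ(Z, W)), R U ((h.appLE W _ e).hom s))

include hp hh

theorem exists_base : ∃ f : C(Y, Z), ∀ x, f (p.base x) = h.base x := by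
  have key : ∀ x, h.base (Function.surjInv hp.surjective (p.base x)) = h.base x := fun x =>
    hh.1 _ _ (Function.surjInv_eq hp.surjective (p.base x))
  refine ⟨⟨fun y => h.base (Function.surjInv hp.surjective y), ?_⟩, key⟩
  rw [hp.quotientMap.continuous_iff]
  exact (h.continuous).congr fun x => (key x).symm

/-- The continuous map underlying the descended morphism. -/
def baseMap : TopCat.of Y ⟶ TopCat.of Z := TopCat.ofHom (exists_base hp h hh).choose

theorem baseMap_apply (x : X) : baseMap hp h hh (p.base x) = h.base x := (exists_base hp h hh).choose_spec x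

theorem preimage_le (W : Z.Opens) :
    p ⁻¹ᵁ ((TopologicalSpace.Opens.map (baseMap hp h hh)).obj W) ≤ h ⁻¹ᵁ W := fun x hx => by
  have : baseMap hp h hh (p.base x) ∈ W := hx
  rwa [baseMap_apply] at this

theorem exists_app (W : Z.Opens) (s : Γ(Z, W)) :
    ∃ t, (p.app ((TopologicalSpace.Opens.map (baseMap hp h hh)).obj W)).hom t =
      (h.appLE W _ (preimage_le hp h hh W)).hom s :=
  hp.range _ _ ((hh.2 W) _ (preimage_le hp h hh W) s)

/-- The sheaf map of the descended morphism. -/
def appMap (W : Z.Opens) : Γ(Z, W) →+* Γ(Y, (TopologicalSpace.Opens.map (baseMap hp h hh)).obj W) where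
  toFun s := (exists_app hp h hh W s).choose
  map_one' := hp.injective _ (by rw [(exists_app hp h hh W 1).choose_spec, map_one, map_one])
  map_mul' s t := hp.injective _ (by
    rw [(exists_app hp h hh W (s * t)).choose_spec, map_mul (p.app _).hom, (exists_app hp h hh W s).choose_spec,
      (exists_app hp h hh W t).choose_spec, map_mul])
  map_zero' := hp.injective _ (by rw [(exists_app hp h hh W 0).choose_spec, map_zero, map_zero])
  map_add' s t := hp.injective _ (by
    rw [(exists_app hp h hh W (s + t)).choose_spec, map_add (p.app _).hom, (exists_app hp h hh W s).choose_spec,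
      (exists_app hp h hh W t).choose_spec, map_add])

theorem app_appMap (W : Z.Opens) :
    CommRingCat.ofHom (appMap hp h hh W) ≫ p.app _ = h.appLE W _ (preimage_le hp h hh W) :=
  CommRingCat.hom_ext (RingHom.ext fun s => (exists_app hp h hh W s).choose_spec)

/-- The descended morphism of presheafed spaces. -/
def pshHom : Y.toPresheafedSpace ⟶ Z.toPresheafedSpace where
  base := baseMap hp h hh
  c :=
    { app := fun W => CommRingCat.ofHom (appMap hp h hh W.unop)
      naturality := fun W W' i => by
        refine CommRingCat.hom_ext (RingHom.ext fun s => hp.injective _ ?_)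
        have e : ((Z.presheaf.map i ≫ CommRingCat.ofHom (appMap hp h hh W'.unop)) ≫ p.app _) =
            (CommRingCat.ofHom (appMap hp h hh W.unop) ≫
              Y.presheaf.map ((TopologicalSpace.Opens.map (baseMap hp h hh)).op.map i)) ≫ p.app _ := by
          rw [Category.assoc, app_appMap, Scheme.Hom.map_appLE, Category.assoc, Scheme.Hom.naturality,
            ← Category.assoc, app_appMap, Scheme.Hom.appLE_map]
        exact congrArg (fun φ : _ ⟶ _ => CommRingCat.Hom.hom φ s) e }

theorem comp_pshHom : p.toPshHom ≫ pshHom hp h hh = h.toPshHom := by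
  have hb : (p.toPshHom ≫ pshHom hp h hh).base = h.toPshHom.base :=
    ConcreteCategory.hom_ext _ _ fun x => baseMap_apply hp h hh x
  refine PresheafedSpace.ext _ _ hb (NatTrans.ext (funext fun W => CommRingCat.hom_ext (RingHom.ext fun s => ?_)))
  show (X.presheaf.map _).hom ((p.app _).hom (appMap hp h hh W.unop s)) = (h.app W.unop).hom s
  rw [show (p.app _).hom (appMap hp h hh W.unop s) = _ from (exists_app hp h hh W.unop s).choose_spec]
  show (h.app W.unop ≫ X.presheaf.map _ ≫ X.presheaf.map _).hom s = _
  rw [← Functor.map_comp]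
  refine (congrArg (fun t => (h.app W.unop ≫ X.presheaf.map t).hom s) (Subsingleton.elim _ (𝟙 _))).trans ?_
  rw [CategoryTheory.Functor.map_id, Category.comp_id]

omit hp hh in
theorem isLocalHom_eqToHom {A B : CommRingCat.{u}} (e : A = B) : IsLocalHom (eqToHom e).hom := by
  subst e
  exact ⟨fun _ ha => ha⟩

/-- The descended morphism. -/
def desc : Y ⟶ Z := Scheme.Hom.mk
  { toHom := pshHom hp h hh
    prop := fun y => by
      obtain ⟨x, rfl⟩ := hp.surjective y
      have e1 := PresheafedSpace.stalkMap.comp p.toPshHom (pshHom hp h hh) x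
      have e2 := PresheafedSpace.stalkMap.congr_hom _ _ (comp_pshHom hp h hh) x
      rw [e1] at e2
      haveI : IsLocalHom (h.toPshHom.stalkMap x).hom := h.toLRSHom.prop x
      haveI : IsLocalHom ((pshHom hp h hh).stalkMap (p.toPshHom.base x) ≫ p.toPshHom.stalkMap x).hom := by
        rw [e2]
        exact @RingHom.isLocalHom_comp _ _ _ _ _ _ _ _ ‹_› (isLocalHom_eqToHom _)
      rw [CommRingCat.hom_comp] at this
      exact isLocalHom_of_comp _ (p.toPshHom.stalkMap x).hom }

theorem comp_desc : p ≫ desc hp h hh = h := by
  refine Scheme.Hom.ext' (LocallyRingedSpace.Hom.ext' ?_)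
  exact comp_pshHom hp h hh


end Groth.Agent.QuotLib.DescGen
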