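import Groth.Prelude.Def_SGA1
import Mathlib

/-!
Quotients of schemes by finite groups (`SGA1.IsQuot`): the basic properties.
-/

set_option autoImplicit false
universe u v w
open CategoryTheory CategoryTheory.Limits AlgebraicGeometry
open scoped Pointwise Polynomial

noncomputable section

namespace Groth.Agent.QuotLib

section Alg

/-- Two homomorphisms to a domain which agree on invariants differ by the group. -/
theorem exists_comp_smul_eq {A : Type u} {B : Type v} {K : Type w} [CommRing A] [CommRing B] [Algebra A B]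
    {G : Type*} [Group G] [Finite G] [MulSemiringAction G B] [Algebra.IsInvariant A B G]
    [CommRing K] [IsDomain K] (φ ψ : B →+* K)
    (h : ∀ a, φ (algebraMap A B a) = ψ (algebraMap A B a)) : ∃ g : G, ∀ b, φ b = ψ (g • b) := by
  classical
  haveI := Fintype.ofFinite G
  by_contra hne
  push Not at hne
  choose b hb using hne
  let e := Fintype.equivFin G
  let P : B[X] := ∑ i, Polynomial.monomial (e i : ℕ) (b i)
  let Q : Polynomial B[X] := ∏ g : G, (Polynomial.X - Polynomial.C (g • P))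
  have hQ : ∀ n m, φ ((Q.coeff n).coeff m) = ψ ((Q.coeff n).coeff m) := by
    intro n m
    obtain ⟨a, ha⟩ := Algebra.IsInvariant.isInvariant (A := A) (G := G) ((Q.coeff n).coeff m) fun g => by
      rw [← Polynomial.coeff_smul, show g • Q.coeff n = Q.coeff n from MulSemiringAction.smul_coeff_charpoly P n g]
    rw [← ha]
    exact h a
  have hmap : Q.map (Polynomial.mapRingHom φ) = Q.map (Polynomial.mapRingHom ψ) := by
    ext n m
    simp [Polynomial.coeff_map, hQ]
  have h0 : (Q.map (Polynomial.mapRingHom φ)).eval (P.map φ) = 0 := by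
    rw [Polynomial.map_prod, Polynomial.eval_prod]
    exact Finset.prod_eq_zero (Finset.mem_univ 1) (by simp)
  rw [hmap, Polynomial.map_prod, Polynomial.eval_prod, Finset.prod_eq_zero_iff] at h0
  obtain ⟨g, -, hg⟩ := h0
  simp only [Polynomial.map_sub, Polynomial.map_X, Polynomial.map_C, Polynomial.coe_mapRingHom,
    Polynomial.eval_sub, Polynomial.eval_X, Polynomial.eval_C, sub_eq_zero] at hg
  have hcoe : P.coeff (e g : ℕ) = b g := by
    simp [P, Polynomial.coeff_monomial, Fin.val_inj]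
  have := congrArg (fun q => Polynomial.coeff q (e g : ℕ)) hg
  simp only [Polynomial.coeff_map, Polynomial.coeff_smul, hcoe] at this
  exact hb g this

end Alg

variable {X Y : Scheme.{u}} {G : Type u} [Group G] {ρ : G →* Aut X} {p : X ⟶ Y}

/-- The action of `g` on sections over `p⁻¹V`. -/
def sect (hp : SGA1.IsQuot ρ p) (V : Y.Opens) (g : G) : Γ(X, p ⁻¹ᵁ V) →+* Γ(X, p ⁻¹ᵁ V) :=
  ((ρ g).hom.appLE (p ⁻¹ᵁ V) (p ⁻¹ᵁ V) (SGA1.preimage_le_of_inv ρ p hp.inv g V)).hom

theorem sect_one (hp : SGA1.IsQuot ρ p) (V : Y.Opens) (s : Γ(X, p ⁻¹ᵁ V)) : sect hp V 1 s = s := by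
  have : (ρ 1).hom = 𝟙 X := by rw [map_one]; rfl
  simp only [sect, this]
  show (X.presheaf.map (𝟙 (Opposite.op (p ⁻¹ᵁ V)))).hom s = s
  rw [CategoryTheory.Functor.map_id]
  rfl

theorem sect_mul (hp : SGA1.IsQuot ρ p) (V : Y.Opens) (g h : G) (s : Γ(X, p ⁻¹ᵁ V)) :
    sect hp V (g * h) s = sect hp V h (sect hp V g s) := by
  have : (ρ (g * h)).hom = (ρ h).hom ≫ (ρ g).hom := by rw [map_mul]; rfl
  simp only [sect, this]
  rw [← CommRingCat.comp_apply, Scheme.Hom.appLE_comp_appLE]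

/-- The action on sections. -/
@[implicit_reducible]
def action (hp : SGA1.IsQuot ρ p) (V : Y.Opens) : MulSemiringAction G Γ(X, p ⁻¹ᵁ V) where
  smul g s := sect hp V g⁻¹ s
  one_smul s := by
    show sect hp V (1 : G)⁻¹ s = s
    rw [inv_one, sect_one]
  mul_smul g h s := by
    show sect hp V (g * h)⁻¹ s = sect hp V g⁻¹ (sect hp V h⁻¹ s)
    rw [mul_inv_rev, sect_mul]
  smul_zero g := map_zero (sect hp V g⁻¹)
  smul_add g := map_add (sect hp V g⁻¹)
  smul_one g := map_one (sect hp V g⁻¹)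
  smul_mul g := map_mul (sect hp V g⁻¹)

/-- The algebra structure on sections. -/
@[implicit_reducible]
def algebra (p : X ⟶ Y) (V : Y.Opens) : Algebra Γ(Y, V) Γ(X, p ⁻¹ᵁ V) := (p.app V).hom.toAlgebra

theorem isInvariant (hp : SGA1.IsQuot ρ p) (V : Y.Opens) :
    letI := algebra p V
    letI := action hp V
    Algebra.IsInvariant Γ(Y, V) Γ(X, p ⁻¹ᵁ V) G := by
  letI := algebra p V
  letI := action hp V
  refine ⟨fun s hs => ?_⟩
  exact (hp.range_iff V s).2 fun g => by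
    have : sect hp V (g⁻¹)⁻¹ s = s := hs g⁻¹
    rwa [inv_inv] at this

theorem smulCommClass (hp : SGA1.IsQuot ρ p) (V : Y.Opens) :
    letI := algebra p V
    letI := action hp V
    SMulCommClass G Γ(Y, V) Γ(X, p ⁻¹ᵁ V) := by
  letI := algebra p V
  letI := action hp V
  refine ⟨fun g a s => ?_⟩
  show sect hp V g⁻¹ ((p.app V).hom a * s) = (p.app V).hom a * sect hp V g⁻¹ s
  rw [map_mul]
  congr 1
  exact (hp.range_iff V _).1 ⟨a, rfl⟩ g⁻¹

section Finite

variable [Finite G]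

theorem isIntegral_app (hp : SGA1.IsQuot ρ p) (V : Y.Opens) : (p.app V).hom.IsIntegral := by
  letI := algebra p V
  letI := action hp V
  haveI := isInvariant hp V
  exact fun x => (Algebra.IsInvariant.isIntegral Γ(Y, V) Γ(X, p ⁻¹ᵁ V) G).1 x

theorem isIntegralHom (hp : SGA1.IsQuot ρ p) : IsIntegralHom p :=
  { toIsAffineHom := hp.affine
    isIntegral_app := fun V _ => isIntegral_app hp V }

theorem surjective (hp : SGA1.IsQuot ρ p) : Function.Surjective p.base := by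
  intro y
  haveI := hp.affine
  obtain ⟨_, ⟨V, hV, rfl⟩, hy, -⟩ := Y.isBasis_affineOpens.exists_subset_of_mem_open (Set.mem_univ y) isOpen_univ
  have hU : IsAffineOpen (p ⁻¹ᵁ V) := hV.preimage p
  obtain ⟨Q, hQ⟩ := (isIntegral_app hp V).comap_surjective (hp.injective V) (hV.primeIdealOf ⟨y, hy⟩)
  let x := hU.fromSpec Q
  have hx : x ∈ p ⁻¹ᵁ V := by
    have : x ∈ Set.range hU.fromSpec := ⟨Q, rfl⟩
    rwa [hU.range_fromSpec] at this
  have hQx : hU.primeIdealOf ⟨x, hx⟩ = Q :=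
    hU.fromSpec.isOpenEmbedding.injective (hU.fromSpec_primeIdealOf ⟨x, hx⟩)
  refine ⟨x, ?_⟩
  have := IsAffineOpen.comap_primeIdealOf_appLE (f := p) V hV (p ⁻¹ᵁ V) hU le_rfl hx
  rw [hQx, Scheme.Hom.appLE_eq_app] at this
  rw [show PrimeSpectrum.comap (p.app V).hom Q = hV.primeIdealOf ⟨y, hy⟩ from hQ] at this
  have h2 := congrArg hV.fromSpec this
  rw [hV.fromSpec_primeIdealOf, hV.fromSpec_primeIdealOf] at h2
  exact h2.symm

theorem base_apply_inv (hp : SGA1.IsQuot ρ p) (g : G) (x : X) : p.base ((ρ g).hom.base x) = p.base x := by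
  rw [← Scheme.Hom.comp_apply, hp.inv g]

theorem exists_eq_of_base_eq (hp : SGA1.IsQuot ρ p) {x x' : X} (h : p.base x = p.base x') :
    ∃ g : G, (ρ g).hom.base x = x' := by
  haveI := hp.affine
  obtain ⟨_, ⟨V, hV, rfl⟩, hy, -⟩ :=
    Y.isBasis_affineOpens.exists_subset_of_mem_open (Set.mem_univ (p.base x)) isOpen_univ
  have hU : IsAffineOpen (p ⁻¹ᵁ V) := hV.preimage p
  letI := algebra p V
  letI := action hp V
  haveI := isInvariant hp V
  haveI := smulCommClass hp V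
  have hx : x ∈ p ⁻¹ᵁ V := hy
  have hx' : x' ∈ p ⁻¹ᵁ V := by
    show p.base x' ∈ V
    rw [← h]; exact hy
  have e1 := IsAffineOpen.comap_primeIdealOf_appLE (f := p) V hV (p ⁻¹ᵁ V) hU le_rfl hx
  have e2 := IsAffineOpen.comap_primeIdealOf_appLE (f := p) V hV (p ⁻¹ᵁ V) hU le_rfl hx'
  rw [Scheme.Hom.appLE_eq_app] at e1 e2
  have e3 : hV.primeIdealOf ⟨p x, hx⟩ = hV.primeIdealOf ⟨p x', hx'⟩ := congrArg _ (Subtype.ext h)
  obtain ⟨g, hg⟩ := Algebra.IsInvariant.exists_smul_of_under_eq Γ(Y, V) Γ(X, p ⁻¹ᵁ V) G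
    (hU.primeIdealOf ⟨x, hx⟩).asIdeal (hU.primeIdealOf ⟨x', hx'⟩).asIdeal
    (congrArg PrimeSpectrum.asIdeal ((e1.trans e3).trans e2.symm))
  refine ⟨g, ?_⟩
  have hgx : (ρ g).hom x ∈ p ⁻¹ᵁ V := SGA1.preimage_le_of_inv ρ p hp.inv g V hx
  have e4 := IsAffineOpen.comap_primeIdealOf_appLE (f := (ρ g).hom) (p ⁻¹ᵁ V) hU (p ⁻¹ᵁ V) hU
    (SGA1.preimage_le_of_inv ρ p hp.inv g V) hx
  have e5 : hU.primeIdealOf ⟨x', hx'⟩ = hU.primeIdealOf ⟨(ρ g).hom x, hgx⟩ := by
    rw [← e4]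
    refine PrimeSpectrum.ext (Ideal.ext fun s => ?_)
    rw [hg, Ideal.mem_pointwise_smul_iff_inv_smul_mem]
    show sect hp V (g⁻¹)⁻¹ s ∈ _ ↔ _
    rw [inv_inv]
    rfl
  have h2 := congrArg hU.fromSpec e5
  rw [hU.fromSpec_primeIdealOf, hU.fromSpec_primeIdealOf] at h2
  exact h2.symm

theorem base_eq_iff (hp : SGA1.IsQuot ρ p) (x x' : X) :
    p.base x = p.base x' ↔ ∃ g : G, (ρ g).hom.base x = x' :=
  ⟨exists_eq_of_base_eq hp, fun ⟨g, hg⟩ => hg ▸ (base_apply_inv hp g x).symm⟩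

theorem isQuotientMap (hp : SGA1.IsQuot ρ p) : Topology.IsQuotientMap p.base := by
  haveI := isIntegralHom hp
  exact p.isClosedMap.isQuotientMap p.continuous (surjective hp)

end Finite

end Groth.Agent.QuotLib
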