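import Groth.Agent.QuotLib.Basic

/-!
A quotient by a finite group is a categorical quotient.
-/

set_option autoImplicit false
universe u
open CategoryTheory CategoryTheory.Limits AlgebraicGeometry Opposite

noncomputable section

namespace Groth.Agent.QuotLib

variable {X Y Z : Scheme.{u}} {G : Type u} [Group G] [Finite G] {ρ : G →* Aut X} {p : X ⟶ Y}
  (hp : SGA1.IsQuot ρ p) (h : X ⟶ Z) (hh : ∀ g : G, (ρ g).hom ≫ h = h)

theorem eq_of_comp_eq {h₁ h₂ : Y ⟶ Z} (hp : SGA1.IsQuot ρ p) (e : p ≫ h₁ = p ≫ h₂) : h₁ = h₂ := by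
  have hb : h₁.base = h₂.base := by
    refine ConcreteCategory.hom_ext _ _ fun y => ?_
    obtain ⟨x, rfl⟩ := surjective hp y
    rw [← Scheme.Hom.comp_apply, e, Scheme.Hom.comp_apply]
  refine Scheme.Hom.ext hb fun U => ?_
  refine CommRingCat.hom_ext (RingHom.ext fun a => hp.injective _ ?_)
  have h3 : ∀ (k : X ⟶ Z) (hk : p ≫ h₂ = k) (hk' : p ⁻¹ᵁ (h₂ ⁻¹ᵁ U) ≤ k ⁻¹ᵁ U),
      (p ≫ h₂).appLE U (p ⁻¹ᵁ (h₂ ⁻¹ᵁ U)) le_rfl = k.appLE U _ hk' := by rintro k rfl hk'; rfl
  have e2 := h3 (p ≫ h₁) e.symm (by rw [e]; rfl)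
  rw [← Scheme.Hom.appLE_comp_appLE p h₂ U (h₂ ⁻¹ᵁ U) _ le_rfl le_rfl,
    ← Scheme.Hom.appLE_comp_appLE p h₁ U (h₂ ⁻¹ᵁ U) _ (by rw [show h₁ ⁻¹ᵁ U = h₂ ⁻¹ᵁ U from
      congrArg (fun f => (TopologicalSpace.Opens.map f).obj U) hb]) le_rfl,
    Scheme.Hom.appLE_eq_app, Scheme.Hom.appLE_eq_app] at e2
  have e3 := congrArg (fun φ : _ ⟶ _ => CommRingCat.Hom.hom φ a) e2
  exact e3.symm

include hp hh

theorem exists_base : ∃ f : C(Y, Z), ∀ x, f (p.base x) = h.base x := by
  have key : ∀ x, h.base (Function.surjInv (surjective hp) (p.base x)) = h.base x := fun x => by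
    obtain ⟨g, hg⟩ := exists_eq_of_base_eq hp (Function.surjInv_eq (surjective hp) (p.base x)).symm
    rw [← hg, ← Scheme.Hom.comp_apply, hh g]
  refine ⟨⟨fun y => h.base (Function.surjInv (surjective hp) y), ?_⟩, key⟩
  rw [(isQuotientMap hp).continuous_iff]
  exact (h.continuous).congr fun x => (key x).symm

/-- The continuous map underlying the descended morphism. -/
def baseMap : TopCat.of Y ⟶ TopCat.of Z := TopCat.ofHom (exists_base hp h hh).choose

theorem baseMap_apply (x : X) : baseMap hp h hh (p.base x) = h.base x := (exists_base hp h hh).choose_spec x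

theorem preimage_le (W : Z.Opens) :
    p ⁻¹ᵁ ((TopologicalSpace.Opens.map (baseMap hp h hh)).obj W) ≤ h ⁻¹ᵁ W := fun x hx => by
  have : baseMap hp h hh (p.base x) ∈ W := hx
  rwa [baseMap_apply] at this

theorem exists_app (W : Z.Opens) (s : Γ(Z, W)) :
    ∃ t, (p.app ((TopologicalSpace.Opens.map (baseMap hp h hh)).obj W)).hom t =
      (h.appLE W _ (preimage_le hp h hh W)).hom s := by
  refine (hp.range_iff _ _).2 fun g => ?_
  rw [← CommRingCat.comp_apply, Scheme.Hom.appLE_comp_appLE]
  have h3 : ∀ (k : X ⟶ Z) (_ : k = h) (hk : p ⁻¹ᵁ ((TopologicalSpace.Opens.map (baseMap hp h hh)).obj W) ≤ k ⁻¹ᵁ W),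
      k.appLE W _ hk = h.appLE W _ (preimage_le hp h hh W) := by rintro k rfl hk; rfl
  rw [h3 _ (hh g)]

/-- The sheaf map of the descended morphism. -/
def appMap (W : Z.Opens) : Γ(Z, W) →+* Γ(Y, (TopologicalSpace.Opens.map (baseMap hp h hh)).obj W) where
  toFun s := (exists_app hp h hh W s).choose
  map_one' := hp.injective _ (by rw [(exists_app hp h hh W 1).choose_spec, map_one, map_one])
  map_mul' s t := hp.injective _ (by
    rw [(exists_app hp h hh W (s * t)).choose_spec, map_mul (p.app _).hom, (exists_app hp h hh W s).choose_spec,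
      (exists_app hp h hh W t).choose_spec, map_mul])
  map_zero' := hp.injective _ (by rw [(exists_app hp h hh W 0).choose_spec, map_zero, map_zero])
  map_add' s t := hp.injective _ (by
    rw [(exists_app hp h hh W (s + t)).choose_spec, map_add (p.app _).hom, (exists_app hp h hh W s).choose_spec,
      (exists_app hp h hh W t).choose_spec, map_add])

theorem app_appMap (W : Z.Opens) :
    CommRingCat.ofHom (appMap hp h hh W) ≫ p.app _ = h.appLE W _ (preimage_le hp h hh W) :=
  CommRingCat.hom_ext (RingHom.ext fun s => (exists_app hp h hh W s).choose_spec)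

/-- The descended morphism of presheafed spaces. -/
def pshHom : Y.toPresheafedSpace ⟶ Z.toPresheafedSpace where
  base := baseMap hp h hh
  c :=
    { app := fun W => CommRingCat.ofHom (appMap hp h hh W.unop)
      naturality := fun W W' i => by
        refine CommRingCat.hom_ext (RingHom.ext fun s => hp.injective _ ?_)
        have e : ((Z.presheaf.map i ≫ CommRingCat.ofHom (appMap hp h hh W'.unop)) ≫ p.app _) =
            (CommRingCat.ofHom (appMap hp h hh W.unop) ≫
              Y.presheaf.map ((TopologicalSpace.Opens.map (baseMap hp h hh)).op.map i)) ≫ p.app _ := by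
          rw [Category.assoc, app_appMap, Scheme.Hom.map_appLE, Category.assoc, Scheme.Hom.naturality,
            ← Category.assoc, app_appMap, Scheme.Hom.appLE_map]
        exact congrArg (fun φ : _ ⟶ _ => CommRingCat.Hom.hom φ s) e }

theorem comp_pshHom : p.toPshHom ≫ pshHom hp h hh = h.toPshHom := by
  have hb : (p.toPshHom ≫ pshHom hp h hh).base = h.toPshHom.base :=
    ConcreteCategory.hom_ext _ _ fun x => baseMap_apply hp h hh x
  refine PresheafedSpace.ext _ _ hb (NatTrans.ext (funext fun W => CommRingCat.hom_ext (RingHom.ext fun s => ?_)))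
  show (X.presheaf.map _).hom ((p.app _).hom (appMap hp h hh W.unop s)) = (h.app W.unop).hom s
  rw [show (p.app _).hom (appMap hp h hh W.unop s) = _ from (exists_app hp h hh W.unop s).choose_spec]
  show (h.app W.unop ≫ X.presheaf.map _ ≫ X.presheaf.map _).hom s = _
  rw [← Functor.map_comp]
  refine (congrArg (fun t => (h.app W.unop ≫ X.presheaf.map t).hom s) (Subsingleton.elim _ (𝟙 _))).trans ?_
  rw [CategoryTheory.Functor.map_id, Category.comp_id]

omit hp hh in
theorem isLocalHom_eqToHom {A B : CommRingCat.{u}} (e : A = B) : IsLocalHom (eqToHom e).hom := by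
  subst e
  exact ⟨fun _ ha => ha⟩

/-- The descended morphism. -/
def desc : Y ⟶ Z := Scheme.Hom.mk
  { toHom := pshHom hp h hh
    prop := fun y => by
      obtain ⟨x, rfl⟩ := surjective hp y
      have e1 := PresheafedSpace.stalkMap.comp p.toPshHom (pshHom hp h hh) x
      have e2 := PresheafedSpace.stalkMap.congr_hom _ _ (comp_pshHom hp h hh) x
      rw [e1] at e2
      haveI : IsLocalHom (h.toPshHom.stalkMap x).hom := h.toLRSHom.prop x
      haveI : IsLocalHom ((pshHom hp h hh).stalkMap (p.toPshHom.base x) ≫ p.toPshHom.stalkMap x).hom := by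
        rw [e2]
        exact @RingHom.isLocalHom_comp _ _ _ _ _ _ _ _ ‹_› (isLocalHom_eqToHom _)
      rw [CommRingCat.hom_comp] at this
      exact isLocalHom_of_comp _ (p.toPshHom.stalkMap x).hom }

theorem comp_desc : p ≫ desc hp h hh = h := by
  refine Scheme.Hom.ext' (LocallyRingedSpace.Hom.ext' ?_)
  exact comp_pshHom hp h hh

theorem existsUnique_desc : ∃! h' : Y ⟶ Z, p ≫ h' = h :=
  ⟨desc hp h hh, comp_desc hp h hh, fun _ e => eq_of_comp_eq hp (e.trans (comp_desc hp h hh).symm)⟩

end Groth.Agent.QuotLib
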