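import Groth.Agent.QuotLib.Affine
import Groth.Agent.QuotLib.Desc

/-! Existence of quotients of affine schemes; invariant affine neighbourhoods. -/

set_option autoImplicit false
universe u
open CategoryTheory CategoryTheory.Limits AlgebraicGeometry Opposite TopologicalSpace

noncomputable section

namespace Groth.Agent.QuotLib

variable {X : Scheme.{u}} {G : Type u} [Group G] [Finite G] (ρ : G →* Aut X)

/-- An affine scheme with an action of a finite group has a quotient. -/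
theorem exists_isQuot_of_isAffine [IsAffine X] :
    ∃ (Y : Scheme.{u}) (p : X ⟶ Y), IsAffine Y ∧ SGA1.IsQuot ρ p := by
  let A : Subring Γ(X, ⊤) :=
    ⨅ g : G, ((ρ g).hom.appTop.hom).eqLocus (RingHom.id _)
  have hA : ∀ s, s ∈ A ↔ ∀ g : G, (ρ g).hom.appTop.hom s = s := fun s => by
    simp only [A, Subring.mem_iInf]
    rfl
  let φ : CommRingCat.of A ⟶ Γ(X, ⊤) := CommRingCat.ofHom A.subtype
  let p : X ⟶ Spec (CommRingCat.of A) := X.toSpecΓ ≫ Spec.map φ
  have hinv : ∀ g : G, (ρ g).hom ≫ p = p := fun g => by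
    simp only [p]
    rw [Scheme.toSpecΓ_naturality_assoc, ← Spec.map_comp]
    congr 2
    exact CommRingCat.hom_ext (RingHom.ext fun a => (hA a).1 a.2 g)
  have happ : p.appTop = (Scheme.ΓSpecIso (CommRingCat.of A)).hom ≫ φ := by
    simp only [p, Scheme.Hom.comp_appTop, Scheme.toSpecΓ_appTop]
    exact Scheme.ΓSpecIso_naturality φ
  refine ⟨_, p, inferInstance, isQuot_of_affine hinv ?_ ?_⟩
  · show Function.Injective p.appTop.hom
    rw [happ]
    exact Subtype.val_injective.comp (ConcreteCategory.bijective_of_isIso (Scheme.ΓSpecIso (CommRingCat.of A)).hom).1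
  · intro s hs
    refine ⟨(Scheme.ΓSpecIso (CommRingCat.of A)).inv.hom ⟨s, (hA s).2 fun g => ?_⟩, ?_⟩
    · have := hs g
      rwa [show (ρ g).hom.appLE (p ⁻¹ᵁ ⊤) (p ⁻¹ᵁ ⊤) (SGA1.preimage_le_of_inv ρ p hinv g ⊤) = (ρ g).hom.appTop from
        (ρ g).hom.appLE_eq_app] at this
    · show p.appTop.hom _ = s
      rw [happ, CommRingCat.comp_apply, Iso.inv_hom_id_apply]
      rfl

/-- Finitely many points in an affine open and in an open `W` lie in a basic open inside `W`. -/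
theorem exists_basicOpen_finite {ι : Type*} [Finite ι] {U : X.Opens} (hU : IsAffineOpen U) (W : X.Opens)
    (x : ι → X) (hxU : ∀ i, x i ∈ U) (hxW : ∀ i, x i ∈ W) :
    ∃ f : Γ(X, U), X.basicOpen f ≤ W ∧ ∀ i, x i ∈ X.basicOpen f := by
  classical
  haveI := Fintype.ofFinite ι
  obtain ⟨J, hJ⟩ := (PrimeSpectrum.isClosed_iff_zeroLocus_ideal _).1 (hU.fromSpec ⁻¹ᵁ W).2.isClosed_compl
  let P : ι → Ideal Γ(X, U) := fun i => (hU.primeIdealOf ⟨x i, hxU i⟩).asIdeal
  have hnot : ¬ ((J : Set Γ(X, U)) ⊆ ⋃ i ∈ ((Finset.univ : Finset ι) : Set ι), P i) := by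
    intro hsub
    rcases isEmpty_or_nonempty ι with hι | ⟨⟨i₀⟩⟩
    · simpa using hsub J.zero_mem
    · obtain ⟨i, -, hi⟩ := (Ideal.subset_union_prime (s := (Finset.univ : Finset ι)) (f := P) i₀ i₀
        (fun i _ _ _ => (hU.primeIdealOf ⟨x i, hxU i⟩).isPrime)).1 hsub
      have h1 : hU.primeIdealOf ⟨x i, hxU i⟩ ∈ PrimeSpectrum.zeroLocus (J : Set Γ(X, U)) := hi
      rw [← hJ] at h1
      exact h1 (show hU.fromSpec (hU.primeIdealOf ⟨x i, hxU i⟩) ∈ W by
        rw [hU.fromSpec_primeIdealOf]; exact hxW i)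
  obtain ⟨f, hfJ, hf⟩ := Set.not_subset.1 hnot
  refine ⟨f, fun z hz => ?_, fun i => ?_⟩
  · obtain ⟨w, rfl⟩ : z ∈ Set.range hU.fromSpec := by
      rw [hU.range_fromSpec]; exact X.basicOpen_le f hz
    have hw : w ∈ hU.fromSpec ⁻¹ᵁ X.basicOpen f := hz
    rw [hU.fromSpec_preimage_basicOpen] at hw
    by_contra hne
    have h2 : w ∈ PrimeSpectrum.zeroLocus (J : Set Γ(X, U)) := by rw [← hJ]; exact hne
    exact hw (h2 hfJ)
  · suffices hh : hU.fromSpec (hU.primeIdealOf ⟨x i, hxU i⟩) ∈ X.basicOpen f by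
      rwa [hU.fromSpec_primeIdealOf] at hh
    show hU.primeIdealOf ⟨x i, hxU i⟩ ∈ hU.fromSpec ⁻¹ᵁ X.basicOpen f
    rw [hU.fromSpec_preimage_basicOpen]
    exact fun h => hf (Set.mem_iUnion₂.2 ⟨i, Finset.mem_coe.2 (Finset.mem_univ i), h⟩)

theorem mem_basicOpen_prod {ι : Type*} (T : Finset ι) {U : X.Opens} (f : ι → Γ(X, U)) (x : X) :
    x ∈ X.basicOpen (∏ i ∈ T, f i) ↔ x ∈ U ∧ ∀ i ∈ T, x ∈ X.basicOpen (f i) := by
  classical
  induction T using Finset.induction_on with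
  | empty => simp [Scheme.basicOpen_of_isUnit]
  | insert i T hi ih =>
    rw [Finset.prod_insert hi, Scheme.basicOpen_mul, Opens.mem_inf, ih, Finset.forall_mem_insert]
    constructor
    · rintro ⟨h1, h2, h3⟩; exact ⟨h2, h1, h3⟩
    · rintro ⟨h2, h1, h3⟩; exact ⟨h1, h2, h3⟩

/-- Invariant affine opens form a basis in a neighbourhood of each orbit. -/
theorem exists_invariant_affine (h : ∀ x : X, ∃ U : X.Opens, IsAffineOpen U ∧ ∀ g : G, (ρ g).hom.base x ∈ U)
    (x : X) (W : X.Opens) (hW : ∀ g : G, (ρ g).hom.base x ∈ W) :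
    ∃ V : X.Opens, IsAffineOpen V ∧ (∀ g : G, V ≤ (ρ g).hom ⁻¹ᵁ V) ∧ (∀ g : G, (ρ g).hom.base x ∈ V) ∧ V ≤ W := by
  classical
  haveI := Fintype.ofFinite G
  have hmul : ∀ (a b : G) (y : X), (ρ (a * b)).hom.base y = (ρ a).hom.base ((ρ b).hom.base y) := fun a b y => by
    rw [← Scheme.Hom.comp_apply, map_mul]; rfl
  have hone : ∀ y : X, (ρ 1).hom.base y = y := fun y => by rw [map_one]; rfl
  obtain ⟨U, hU, hxU⟩ := h x
  let W₀ : Set X := ⋂ g : G, (ρ g).hom.base ⁻¹' ((W ⊓ U : X.Opens) : Set X)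
  have hW₀ : IsOpen W₀ := isOpen_iInter_of_finite fun g => (W ⊓ U).2.preimage (ρ g).hom.continuous
  obtain ⟨f, hf, hfx⟩ := exists_basicOpen_finite hU ⟨W₀, hW₀⟩ (fun g : G => (ρ g).hom.base x) hxU
    (fun g => Set.mem_iInter.2 fun a => by
      show (ρ a).hom.base ((ρ g).hom.base x) ∈ W ⊓ U
      rw [← hmul]
      exact ⟨hW _, hxU _⟩)
  have hD : IsAffineOpen (X.basicOpen f) := hU.basicOpen f
  have hle : ∀ g : G, X.basicOpen f ≤ (ρ g).hom ⁻¹ᵁ U := fun g y hy => (Set.mem_iInter.1 (hf hy) g).2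
  let fg : G → Γ(X, X.basicOpen f) := fun g => ((ρ g).hom.appLE U (X.basicOpen f) (hle g)).hom f
  let V := X.basicOpen (∏ g : G, fg g)
  have hVmem : ∀ y, y ∈ V ↔ ∀ g : G, (ρ g).hom.base y ∈ X.basicOpen f := fun y => by
    rw [show y ∈ V ↔ _ from mem_basicOpen_prod Finset.univ fg y]
    simp only [Finset.mem_univ, forall_const, fg, Scheme.basicOpen_appLE, Opens.mem_inf]
    constructor
    · rintro ⟨-, h2⟩ g; exact (h2 g).2
    · intro h2
      have : y ∈ X.basicOpen f := hone y ▸ h2 1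
      exact ⟨this, fun g => ⟨this, h2 g⟩⟩
  refine ⟨V, hD.basicOpen _, fun g y hy => (hVmem _).2 fun a => ?_, fun g => (hVmem _).2 fun a => ?_, fun y hy => ?_⟩
  · rw [← hmul]
    exact (hVmem y).1 hy _
  · rw [← hmul]
    exact hfx _
  · have := (Set.mem_iInter.1 (hf ((hVmem y).1 hy 1)) 1).1
    rwa [hone, hone] at this

end Groth.Agent.QuotLib
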