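import Groth.Agent.QuotLib.Reynolds
import Mathlib.LinearAlgebra.TensorProduct.Pi
import Mathlib.RingTheory.Flat.Basic

/-! Quotients by finite groups commute with flat base change. -/

set_option autoImplicit false
set_option backward.isDefEq.respectTransparency false
set_option backward.isDefEq.respectTransparency.types false
universe u
open CategoryTheory CategoryTheory.Limits AlgebraicGeometry Opposite TopologicalSpace TensorProduct

noncomputable section

namespace Groth.Agent.QuotLib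

variable {B B' A A' : Type u} [CommRing B] [CommRing B'] [CommRing A] [CommRing A']
  [Algebra B B'] [Algebra B A] [Algebra B' A'] [Algebra A A'] [Algebra B A']
  [IsScalarTower B B' A'] [IsScalarTower B A A'] [Algebra.IsPushout B B' A A'] [Module.Flat B B']
  {G : Type*} [Fintype G] (σ : G → A →+* A) (τ : G → A' →+* A')

theorem invariants_flat_baseChange (hτ : ∀ g a, τ g (algebraMap A A' a) = algebraMap A A' (σ g a))
    (hτB : ∀ g b, τ g (algebraMap B' A' b) = algebraMap B' A' b)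
    (hσB : ∀ g b, σ g (algebraMap B A b) = algebraMap B A b)
    (hinj : Function.Injective (algebraMap B A))
    (hinv : ∀ a, (∀ g, σ g a = a) → ∃ b, algebraMap B A b = a) :
    Function.Injective (algebraMap B' A') ∧
      ∀ s, (∀ g, τ g s = s) → ∃ b, algebraMap B' A' b = s := by
  classical
  have hbc : IsBaseChange B' (IsScalarTower.toAlgHom B A A').toLinearMap :=
    ‹Algebra.IsPushout B B' A A'›.out
  let D : A →ₗ[B] (G → A) :=
    { toFun := fun a g => σ g a - a
      map_add' := fun a a' => funext fun g => by simp only [map_add, Pi.add_apply]; abel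
      map_smul' := fun b a => funext fun g => by
        simp only [Algebra.smul_def, map_mul, hσB, RingHom.id_apply, Pi.smul_apply, mul_sub] }
  have hex : Function.Exact (Algebra.linearMap B A) D := fun a => by
    refine ⟨fun h => ?_, ?_⟩
    · exact hinv a fun g => sub_eq_zero.1 (congrFun h g)
    · rintro ⟨b, rfl⟩
      exact funext fun g => sub_eq_zero.2 (hσB g b)
  have hexact := Module.Flat.lTensor_exact B' hex
  have hcomp : ∀ t, hbc.equiv ((Algebra.linearMap B A).lTensor B' t) =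
      algebraMap B' A' (TensorProduct.rid B B' t) := fun t => by
    induction t using TensorProduct.induction_on with
    | zero => simp
    | tmul b' b =>
      rw [LinearMap.lTensor_tmul, IsBaseChange.equiv_tmul, TensorProduct.rid_tmul, Algebra.smul_def,
        Algebra.smul_def, map_mul, mul_comm (algebraMap B' A' _)]
      simp [← IsScalarTower.algebraMap_apply, mul_comm]
    | add x y hx hy => simp [hx, hy]
  refine ⟨fun a b hab => ?_, fun s hs => ?_⟩
  · have h := Module.Flat.lTensor_preserves_injective_linearMap (M := B') (Algebra.linearMap B A) hinj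
    refine (TensorProduct.rid B B').symm.injective (h (hbc.equiv.injective ?_))
    rw [hcomp, hcomp, LinearEquiv.apply_symm_apply, LinearEquiv.apply_symm_apply, hab]
  · let t := hbc.equiv.symm s
    have key : ∀ (g : G) (x : B' ⊗[B] A),
        hbc.equiv (TensorProduct.piRight B B' B' (fun _ : G => A) (D.lTensor B' x) g) =
          τ g (hbc.equiv x) - hbc.equiv x := fun g x => by
      induction x using TensorProduct.induction_on with
      | zero => simp
      | tmul b' a =>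
        rw [LinearMap.lTensor_tmul, TensorProduct.piRight_apply, TensorProduct.piRightHom_tmul,
          IsBaseChange.equiv_tmul, IsBaseChange.equiv_tmul, Algebra.smul_def, Algebra.smul_def, map_mul, hτB]
        simp only [D, LinearMap.coe_mk, AddHom.coe_mk, AlgHom.toLinearMap_apply, IsScalarTower.coe_toAlgHom',
          map_sub, hτ, mul_sub]
      | add x y hx hy =>
        simp only [map_add, Pi.add_apply, hx, hy]
        abel
    have ht : D.lTensor B' t = 0 := by
      refine (TensorProduct.piRight B B' B' fun _ : G => A).injective (funext fun g => hbc.equiv.injective ?_)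
      rw [key, map_zero, Pi.zero_apply, map_zero, LinearEquiv.apply_symm_apply, hs, sub_self]
    obtain ⟨w, hw⟩ := (hexact t).1 ht
    exact ⟨TensorProduct.rid B B' w, by rw [← hcomp, hw, LinearEquiv.apply_symm_apply]⟩

variable {H : Type u} [Group H] [Finite H]

/-- A quotient stays a quotient after flat base change. -/
theorem isQuot_of_isPullback_flat {X Y X' Y' : Scheme.{u}} {ρ : H →* Aut X} {p : X ⟶ Y} (hp : SGA1.IsQuot ρ p)
    {g : Y' ⟶ Y} [Flat g] {pX : X' ⟶ X} {p' : X' ⟶ Y'} (hc : IsPullback pX p' p g) (ρ' : H →* Aut X')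
    (hρ₁ : ∀ a, (ρ' a).hom ≫ pX = pX ≫ (ρ a).hom) (hρ₂ : ∀ a, (ρ' a).hom ≫ p' = p') : SGA1.IsQuot ρ' p' := by
  haveI := hp.affine
  haveI : IsAffineHom p' := MorphismProperty.of_isPullback hc hp.affine
  haveI := Fintype.ofFinite H
  let Bs : Set Y'.Opens := {U | IsAffineOpen U ∧ ∃ V : Y.Opens, IsAffineOpen V ∧ U ≤ g ⁻¹ᵁ V}
  refine isQuot_of_basis hρ₂ Bs (Opens.isBasis_iff_nbhd.2 fun {U y} hy => ?_) ?_ ?_
  · obtain ⟨_, ⟨V, hV, rfl⟩, hgy, -⟩ :=
      Y.isBasis_affineOpens.exists_subset_of_mem_open (Set.mem_univ (g y)) isOpen_univ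
    obtain ⟨_, ⟨U', hU', rfl⟩, hy', hle⟩ :=
      Y'.isBasis_affineOpens.exists_subset_of_mem_open (show y ∈ U ⊓ g ⁻¹ᵁ V from ⟨hy, hgy⟩) (U ⊓ g ⁻¹ᵁ V).2
    exact ⟨U', ⟨hU', V, hV, fun z hz => (hle hz).2⟩, hy', fun z hz => (hle hz).1⟩
  all_goals
    rintro U' ⟨hU', V, hV, e'⟩
    have hW : IsAffineOpen (p ⁻¹ᵁ V) := hV.preimage p
    have hUY : p' ⁻¹ᵁ U' = pX ⁻¹ᵁ (p ⁻¹ᵁ V) ⊓ p' ⁻¹ᵁ U' := by
      refine le_antisymm (le_inf ?_ le_rfl) inf_le_right
      rw [← Scheme.Hom.comp_preimage, hc.w, Scheme.Hom.comp_preimage]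
      exact fun z hz => e' hz
    have hX' : p' ⁻¹ᵁ U' ≤ pX ⁻¹ᵁ (p ⁻¹ᵁ V) := hUY.le.trans inf_le_left
    haveI := isIso_pushoutSection_of_isAffineOpen hc e' (le_refl (p ⁻¹ᵁ V)) hUY hV hU' hW
    have hpo := (isIso_pushoutSection_iff hc e' (le_refl (p ⁻¹ᵁ V)) hUY).mp inferInstance
    letI : Algebra Γ(Y, V) Γ(X, p ⁻¹ᵁ V) := (p.app V).hom.toAlgebra
    letI : Algebra Γ(Y, V) Γ(Y', U') := (g.appLE V U' e').hom.toAlgebra
    letI : Algebra Γ(X, p ⁻¹ᵁ V) Γ(X', p' ⁻¹ᵁ U') := (pX.appLE _ _ hX').hom.toAlgebra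
    letI : Algebra Γ(Y', U') Γ(X', p' ⁻¹ᵁ U') := (p'.app U').hom.toAlgebra
    letI : Algebra Γ(Y, V) Γ(X', p' ⁻¹ᵁ U') := (p.app V ≫ pX.appLE _ _ hX').hom.toAlgebra
    haveI : Module.Flat Γ(Y, V) Γ(Y', U') := Scheme.Hom.flat_appLE g hV hU' e'
    haveI : IsScalarTower Γ(Y, V) Γ(X, p ⁻¹ᵁ V) Γ(X', p' ⁻¹ᵁ U') := .of_algebraMap_eq' rfl
    haveI : IsScalarTower Γ(Y, V) Γ(Y', U') Γ(X', p' ⁻¹ᵁ U') := .of_algebraMap_eq' (by
      show (p.app V ≫ pX.appLE _ _ hX').hom = (g.appLE V U' e' ≫ p'.app U').hom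
      rw [← Scheme.Hom.appLE_eq_app, ← Scheme.Hom.appLE_eq_app, Scheme.Hom.appLE_comp_appLE,
        Scheme.Hom.appLE_comp_appLE]
      congr 2
      exact hc.w)
    haveI : Algebra.IsPushout Γ(Y, V) Γ(Y', U') Γ(X, p ⁻¹ᵁ V) Γ(X', p' ⁻¹ᵁ U') :=
      CommRingCat.isPushout_iff_isPushout.mp (by
        have h := hpo.flip
        simp only [Scheme.Hom.appLE_eq_app] at h
        exact h)
    have hsect : ∀ a (s : Γ(X, p ⁻¹ᵁ V)), ((ρ' a).hom.appLE _ _ (SGA1.preimage_le_of_inv ρ' p' hρ₂ a U')).hom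
        ((pX.appLE _ _ hX').hom s) = (pX.appLE _ _ hX').hom (sect hp V a s) := fun a s => by
      refine congrArg (fun φ : Γ(X, p ⁻¹ᵁ V) ⟶ Γ(X', p' ⁻¹ᵁ U') => φ.hom s)
        (a₁ := pX.appLE _ _ hX' ≫ (ρ' a).hom.appLE _ _ (SGA1.preimage_le_of_inv ρ' p' hρ₂ a U'))
        (a₂ := (ρ a).hom.appLE _ _ (SGA1.preimage_le_of_inv ρ p hp.inv a V) ≫ pX.appLE _ _ hX') ?_
      rw [Scheme.Hom.appLE_comp_appLE, Scheme.Hom.appLE_comp_appLE]
      congr 1
      exact hρ₁ a
    have hcore := invariants_flat_baseChange (B := Γ(Y, V)) (B' := Γ(Y', U')) (sect hp V)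
      (fun a => ((ρ' a).hom.appLE _ _ (SGA1.preimage_le_of_inv ρ' p' hρ₂ a U')).hom) hsect
      (fun a b => congrArg (fun φ : _ ⟶ _ => CommRingCat.Hom.hom φ b) (appLE_app hρ₂ a U'))
      (fun a b => congrArg (fun φ : _ ⟶ _ => CommRingCat.Hom.hom φ b) (appLE_app hp.inv a V))
      (hp.injective V) (fun s hs => (hp.range_iff V s).2 hs)
  · exact hcore.1
  · exact hcore.2

end Groth.Agent.QuotLib
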