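import Groth.Agent.QuotLib.Basic

/-! Being a quotient by a finite group is local on the base. -/

set_option autoImplicit false
universe u
open CategoryTheory CategoryTheory.Limits AlgebraicGeometry Opposite TopologicalSpace

noncomputable section

namespace Groth.Agent.QuotLib

variable {X Y : Scheme.{u}} {G : Type u} [Group G] {ρ : G →* Aut X} {p : X ⟶ Y}
  (hinv : ∀ g : G, (ρ g).hom ≫ p = p)

theorem appLE_app (g : G) (V : Y.Opens) :
    p.app V ≫ (ρ g).hom.appLE _ _ (SGA1.preimage_le_of_inv ρ p hinv g V) = p.app V := by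
  have h3 : ∀ (k : X ⟶ Y) (_ : k = p) (hk : p ⁻¹ᵁ V ≤ k ⁻¹ᵁ V), k.appLE V (p ⁻¹ᵁ V) hk = p.app V := by
    rintro k rfl hk
    rw [Scheme.Hom.appLE_eq_app]
  rw [← Scheme.Hom.appLE_eq_app, Scheme.Hom.appLE_comp_appLE, h3 _ (hinv g), Scheme.Hom.appLE_eq_app]

include hinv in
/-- Invariance of sections is inherited by restrictions. -/
theorem invariant_map {U V : Y.Opens} (hUV : V ≤ U) (s : Γ(X, p ⁻¹ᵁ U))
    (hs : ∀ g : G, ((ρ g).hom.appLE _ _ (SGA1.preimage_le_of_inv ρ p hinv g U)).hom s = s) (g : G) :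
    ((ρ g).hom.appLE _ _ (SGA1.preimage_le_of_inv ρ p hinv g V)).hom
      ((X.presheaf.map (homOfLE fun x hx => hUV hx).op).hom s : Γ(X, p ⁻¹ᵁ V)) =
      (X.presheaf.map (homOfLE fun x hx => hUV hx).op).hom s := by
  have e : X.presheaf.map (homOfLE (x := p ⁻¹ᵁ V) (y := p ⁻¹ᵁ U) fun x hx => hUV hx).op ≫
      (ρ g).hom.appLE _ _ (SGA1.preimage_le_of_inv ρ p hinv g V) =
      (ρ g).hom.appLE _ _ (SGA1.preimage_le_of_inv ρ p hinv g U) ≫
        X.presheaf.map (homOfLE (x := p ⁻¹ᵁ V) (y := p ⁻¹ᵁ U) fun x hx => hUV hx).op := by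
    rw [Scheme.Hom.map_appLE, Scheme.Hom.appLE_map]
  refine (congrArg (fun φ : _ ⟶ _ => CommRingCat.Hom.hom φ s) e).trans ?_
  exact congrArg _ (hs g)

/-- It is enough to check the conditions on a basis of opens. -/
theorem isQuot_of_basis [IsAffineHom p] (B : Set Y.Opens) (hB : Opens.IsBasis B)
    (hinj : ∀ V ∈ B, Function.Injective (p.app V).hom)
    (hsurj : ∀ V ∈ B, ∀ s : Γ(X, p ⁻¹ᵁ V),
      (∀ g : G, ((ρ g).hom.appLE _ _ (SGA1.preimage_le_of_inv ρ p hinv g V)).hom s = s) →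
        ∃ t, (p.app V).hom t = s) :
    SGA1.IsQuot ρ p := by
  have hcov : ∀ U : Y.Opens, U ≤ iSup fun V : {V // V ∈ B ∧ V ≤ U} => (V : Y.Opens) := fun U y hy => by
    obtain ⟨V, hV, hyV, hVU⟩ := Opens.isBasis_iff_nbhd.1 hB hy
    exact Opens.mem_iSup.2 ⟨⟨V, hV, hVU⟩, hyV⟩
  have happ : ∀ {U V : Y.Opens} (hUV : V ≤ U) (t : Γ(Y, U)),
      (p.app V).hom ((Y.presheaf.map (homOfLE hUV).op).hom t) =
        (X.presheaf.map (homOfLE (x := p ⁻¹ᵁ V) (y := p ⁻¹ᵁ U) fun x hx => hUV hx).op).hom ((p.app U).hom t) :=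
    fun hUV t => congrArg (fun φ : _ ⟶ _ => CommRingCat.Hom.hom φ t) (Scheme.Hom.naturality p (homOfLE hUV).op)
  have hinjall : ∀ U : Y.Opens, Function.Injective (p.app U).hom := fun U a b hab => by
    refine TopCat.Sheaf.eq_of_locally_eq' Y.sheaf (fun V : {V // V ∈ B ∧ V ≤ U} => (V : Y.Opens)) U
      (fun V => homOfLE V.2.2) (hcov U) a b fun V => hinj V V.2.1 ?_
    exact (happ V.2.2 a).trans ((congrArg _ hab).trans (happ V.2.2 b).symm)
  refine ⟨inferInstance, hinv, hinjall, fun U s => ⟨?_, fun hs => ?_⟩⟩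
  · rintro ⟨t, rfl⟩ g
    exact congrArg (fun φ : _ ⟶ _ => CommRingCat.Hom.hom φ t) (appLE_app hinv g U)
  · let I := {V // V ∈ B ∧ V ≤ U}
    choose t ht using fun V : I => hsurj V.1 V.2.1 _ (invariant_map hinv V.2.2 s hs)
    obtain ⟨gl, hgl, -⟩ := TopCat.Sheaf.existsUnique_gluing' Y.sheaf (fun V : I => (V : Y.Opens)) U
      (fun V => homOfLE V.2.2) (hcov U) t fun V W => hinjall _ (by
        refine (happ inf_le_left (t V)).trans (Eq.trans ?_ (happ inf_le_right (t W)).symm)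
        rw [ht, ht, ← CommRingCat.comp_apply, ← CommRingCat.comp_apply, ← Functor.map_comp, ← Functor.map_comp]
        rfl)
    refine ⟨gl, TopCat.Sheaf.eq_of_locally_eq' X.sheaf (fun V : I => p ⁻¹ᵁ (V : Y.Opens)) (p ⁻¹ᵁ U)
      (fun V => homOfLE fun x hx => V.2.2 hx) (fun x hx => ?_) _ _ fun V => ?_⟩
    · obtain ⟨V, hV⟩ := Opens.mem_iSup.1 (hcov U hx)
      exact Opens.mem_iSup.2 ⟨V, hV⟩
    · refine Eq.trans (happ V.2.2 gl).symm ?_
      rw [show (Y.presheaf.map (homOfLE V.2.2).op).hom gl = t V from hgl V]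
      exact ht V

end Groth.Agent.QuotLib
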