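import Groth.Agent.QuotLib.Local

/-! Quotients of affine schemes; restriction of quotients. -/

set_option autoImplicit false
universe u
open CategoryTheory CategoryTheory.Limits AlgebraicGeometry Opposite TopologicalSpace

noncomputable section

namespace Groth.Agent.QuotLib

variable {X Y : Scheme.{u}} {G : Type u} [Group G]

/-- For affine schemes it is enough to check the global sections. -/
theorem isQuot_of_affine [Finite G] {ρ : G →* Aut X} {p : X ⟶ Y} [IsAffine X] [IsAffine Y]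
    (hinv : ∀ g : G, (ρ g).hom ≫ p = p) (hinj : Function.Injective (p.app ⊤).hom)
    (hsurj : ∀ s : Γ(X, p ⁻¹ᵁ ⊤),
      (∀ g : G, ((ρ g).hom.appLE _ _ (SGA1.preimage_le_of_inv ρ p hinv g ⊤)).hom s = s) →
        ∃ t, (p.app ⊤).hom t = s) :
    SGA1.IsQuot ρ p := by
  classical
  refine isQuot_of_basis hinv _ (isBasis_basicOpen Y) ?_ ?_
  all_goals rintro _ ⟨a, rfl⟩
  all_goals
    let V := Y.basicOpen a
    let j : p ⁻¹ᵁ V ⟶ p ⁻¹ᵁ ⊤ := homOfLE fun x _ => trivial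
    let i : V ⟶ ⊤ := homOfLE le_top
    let c : Γ(X, p ⁻¹ᵁ ⊤) := (p.app ⊤).hom a
    letI algY : Algebra Γ(Y, ⊤) Γ(Y, V) := (Y.presheaf.map i.op).hom.toAlgebra
    letI algX : Algebra Γ(X, p ⁻¹ᵁ ⊤) Γ(X, p ⁻¹ᵁ V) := (X.presheaf.map j.op).hom.toAlgebra
    haveI : IsLocalization.Away a Γ(Y, V) := (isAffineOpen_top Y).isLocalization_of_eq_basicOpen a i rfl
    haveI : IsLocalization.Away c Γ(X, p ⁻¹ᵁ V) := ((isAffineOpen_top Y).preimage p).isLocalization_of_eq_basicOpen c j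
      (Scheme.preimage_basicOpen p a)
    have hnat : ∀ t, (p.app V).hom (algebraMap Γ(Y, ⊤) Γ(Y, V) t) = algebraMap _ _ ((p.app ⊤).hom t) :=
      fun t => congrArg (fun φ : _ ⟶ _ => CommRingCat.Hom.hom φ t) (Scheme.Hom.naturality p i.op)
  · rw [injective_iff_map_eq_zero]
    intro x hx
    obtain ⟨⟨b, ⟨_, n, rfl⟩⟩, hb⟩ := IsLocalization.surj (Submonoid.powers a) x
    have h0 : algebraMap Γ(X, p ⁻¹ᵁ ⊤) Γ(X, p ⁻¹ᵁ V) ((p.app ⊤).hom b) = 0 := by
      rw [← hnat, ← hb, map_mul, hx, zero_mul]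
    obtain ⟨⟨_, m, rfl⟩, hm⟩ := (IsLocalization.map_eq_zero_iff (Submonoid.powers c) _ _).1 h0
    refine (IsLocalization.Away.algebraMap_pow_isUnit (S := Γ(Y, V)) a n).mul_left_eq_zero.1 ?_
    rw [← map_pow, hb, IsLocalization.map_eq_zero_iff (Submonoid.powers a)]
    refine ⟨⟨_, m, rfl⟩, hinj ?_⟩
    rw [map_mul, map_zero, map_pow]
    exact hm
  · intro s hs
    haveI := Fintype.ofFinite G
    obtain ⟨⟨b, ⟨_, n, rfl⟩⟩, hb⟩ := IsLocalization.surj (Submonoid.powers c) s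
    have hnat2 : ∀ (g : G) (t : Γ(X, p ⁻¹ᵁ ⊤)),
        algebraMap _ Γ(X, p ⁻¹ᵁ V) (((ρ g).hom.appLE _ _ (SGA1.preimage_le_of_inv ρ p hinv g ⊤)).hom t) =
        ((ρ g).hom.appLE _ _ (SGA1.preimage_le_of_inv ρ p hinv g V)).hom (algebraMap _ _ t) := fun g t => by
      have e : (ρ g).hom.appLE _ _ (SGA1.preimage_le_of_inv ρ p hinv g ⊤) ≫ X.presheaf.map j.op =
          X.presheaf.map j.op ≫ (ρ g).hom.appLE _ _ (SGA1.preimage_le_of_inv ρ p hinv g V) := by
        rw [Scheme.Hom.map_appLE, Scheme.Hom.appLE_map]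
      exact congrArg (fun φ : _ ⟶ _ => CommRingCat.Hom.hom φ t) e
    have hc : ∀ g : G, ((ρ g).hom.appLE _ _ (SGA1.preimage_le_of_inv ρ p hinv g ⊤)).hom c = c := fun g =>
      congrArg (fun φ : _ ⟶ _ => CommRingCat.Hom.hom φ a) (appLE_app hinv g ⊤)
    have hbg : ∀ g : G, ∃ m : ℕ, c ^ m * ((ρ g).hom.appLE _ _ (SGA1.preimage_le_of_inv ρ p hinv g ⊤)).hom b =
        c ^ m * b := fun g => by
      have h0 : algebraMap _ Γ(X, p ⁻¹ᵁ V) (((ρ g).hom.appLE _ _ (SGA1.preimage_le_of_inv ρ p hinv g ⊤)).hom b) =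
          algebraMap _ _ b := by
        rw [hnat2, ← hb, map_mul, hs g, ← hnat2, map_pow ((ρ g).hom.appLE _ _ _).hom, hc]
      obtain ⟨⟨_, m, rfl⟩, hm⟩ := (IsLocalization.eq_iff_exists (Submonoid.powers c) _).1 h0
      exact ⟨m, hm⟩
    choose m hm using hbg
    obtain ⟨t, ht⟩ := hsurj (c ^ Finset.univ.sup m * b) fun g => by
      rw [map_mul, map_pow, hc]
      obtain ⟨k, hk⟩ := Nat.exists_eq_add_of_le (Finset.le_sup (f := m) (Finset.mem_univ g))
      rw [hk, pow_add, mul_comm (c ^ m g), mul_assoc, hm g, mul_assoc]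
    refine ⟨IsLocalization.mk' Γ(Y, V) t (⟨a ^ (n + Finset.univ.sup m), _, rfl⟩ : Submonoid.powers a), ?_⟩
    refine (IsUnit.mul_left_inj ((IsLocalization.Away.algebraMap_pow_isUnit (S := Γ(X, p ⁻¹ᵁ V)) c
      (n + Finset.univ.sup m)))).1 ?_
    have h1 := congrArg (p.app V).hom (IsLocalization.mk'_spec Γ(Y, V) t
      (⟨a ^ (n + Finset.univ.sup m), _, rfl⟩ : Submonoid.powers a))
    rw [map_mul, hnat, hnat, map_pow] at h1
    rw [← map_pow]
    refine h1.trans ?_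
    rw [ht, map_mul, ← hb]
    simp only [V, map_pow, map_mul, pow_add]
    ring

/-- The restriction of an action to an invariant open. -/
def restrictAut (ρ : G →* Aut X) (U : X.Opens) (hU : ∀ g : G, U ≤ (ρ g).hom ⁻¹ᵁ U) : G →* Aut U.toScheme where
  toFun g :=
    { hom := (ρ g).hom.resLE U U (hU g)
      inv := (ρ g⁻¹).hom.resLE U U (hU g⁻¹)
      hom_inv_id := by
        have : (ρ g).hom ≫ (ρ g⁻¹).hom = 𝟙 X := by
          rw [show (ρ g).hom ≫ (ρ g⁻¹).hom = (ρ g⁻¹ * ρ g).hom from rfl, ← map_mul, inv_mul_cancel, map_one]; rfl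
        rw [← cancel_mono U.ι, Category.assoc, Scheme.Hom.resLE_comp_ι, Scheme.Hom.resLE_comp_ι_assoc, this,
          Category.comp_id, Category.id_comp]
      inv_hom_id := by
        have : (ρ g⁻¹).hom ≫ (ρ g).hom = 𝟙 X := by
          rw [show (ρ g⁻¹).hom ≫ (ρ g).hom = (ρ g * ρ g⁻¹).hom from rfl, ← map_mul, mul_inv_cancel, map_one]; rfl
        rw [← cancel_mono U.ι, Category.assoc, Scheme.Hom.resLE_comp_ι, Scheme.Hom.resLE_comp_ι_assoc, this,
          Category.comp_id, Category.id_comp] }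
  map_one' := by
    refine Iso.ext ?_
    show (ρ 1).hom.resLE U U (hU 1) = 𝟙 _
    rw [← cancel_mono U.ι, Scheme.Hom.resLE_comp_ι, map_one, Category.id_comp]
    exact Category.comp_id _
  map_mul' g h := by
    refine Iso.ext ?_
    show (ρ (g * h)).hom.resLE U U (hU (g * h)) = (ρ h).hom.resLE U U (hU h) ≫ (ρ g).hom.resLE U U (hU g)
    rw [← cancel_mono U.ι, Category.assoc, Scheme.Hom.resLE_comp_ι, Scheme.Hom.resLE_comp_ι,
      Scheme.Hom.resLE_comp_ι_assoc, map_mul]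
    rfl

theorem restrictAut_hom_ι (ρ : G →* Aut X) (U : X.Opens) (hU : ∀ g : G, U ≤ (ρ g).hom ⁻¹ᵁ U) (g : G) :
    (restrictAut ρ U hU g).hom ≫ U.ι = U.ι ≫ (ρ g).hom := Scheme.Hom.resLE_comp_ι _ _

/-- The restriction of a quotient to an open of the base is a quotient. -/
theorem isQuot_restrict {ρ : G →* Aut X} {p : X ⟶ Y} (hp : SGA1.IsQuot ρ p) (V : Y.Opens) :
    SGA1.IsQuot (restrictAut ρ (p ⁻¹ᵁ V) fun g => SGA1.preimage_le_of_inv ρ p hp.inv g V) (p ∣_ V) := by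
  haveI := hp.affine
  have hinv : ∀ g : G, (restrictAut ρ (p ⁻¹ᵁ V) (fun g => SGA1.preimage_le_of_inv ρ p hp.inv g V) g).hom ≫
      (p ∣_ V) = p ∣_ V := fun g => by
    rw [← cancel_mono V.ι, Category.assoc, morphismRestrict_ι, ← Category.assoc, restrictAut_hom_ι,
      Category.assoc, hp.inv g]
  refine ⟨MorphismProperty.of_isPullback (isPullback_morphismRestrict p V).flip hp.affine, hinv,
    fun W a b hab => ?_, fun W s => ⟨?_, fun hs => ?_⟩⟩
  · rw [morphismRestrict_app] at hab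
    exact hp.injective _ ((ConcreteCategory.bijective_of_isIso (X.presheaf.map
      (eqToHom (image_morphismRestrict_preimage p V W)).op)).1 hab)
  · rintro ⟨t, rfl⟩ g
    exact congrArg (fun φ : _ ⟶ _ => CommRingCat.Hom.hom φ t) (appLE_app hinv g W)
  · let U := p ⁻¹ᵁ V
    let W' : Y.Opens := V.ι ''ᵁ W
    have hW : U.ι ''ᵁ ((p ∣_ V) ⁻¹ᵁ W) = p ⁻¹ᵁ W' := image_morphismRestrict_preimage p V W
    let s' : Γ(X, p ⁻¹ᵁ W') := (X.presheaf.map (eqToHom hW.symm).op).hom s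
    obtain ⟨t, ht⟩ := (hp.range_iff W' s').2 fun g => by
      have e : ∀ (k : X ⟶ X) (hk : U ≤ k ⁻¹ᵁ U) (h1 : p ⁻¹ᵁ W' ≤ k ⁻¹ᵁ (p ⁻¹ᵁ W'))
          (h2 : (p ∣_ V) ⁻¹ᵁ W ≤ k.resLE U U hk ⁻¹ᵁ ((p ∣_ V) ⁻¹ᵁ W)),
          X.presheaf.map (eqToHom hW.symm).op ≫ k.appLE _ _ h1 =
            (k.resLE U U hk).appLE _ _ h2 ≫ X.presheaf.map (eqToHom hW.symm).op := fun k hk h1 h2 => by
        rw [Scheme.Hom.resLE_appLE, Scheme.Hom.map_appLE]
        exact (Scheme.Hom.appLE_map _ _ _).symm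
      exact (congrArg (fun φ : _ ⟶ _ => CommRingCat.Hom.hom φ s) (e (ρ g).hom
        (SGA1.preimage_le_of_inv ρ p hp.inv g V) (SGA1.preimage_le_of_inv ρ p hp.inv g W')
        (SGA1.preimage_le_of_inv _ _ hinv g W))).trans (congrArg (X.presheaf.map (eqToHom hW.symm).op).hom (hs g))
    refine ⟨t, (ConcreteCategory.bijective_of_isIso (X.presheaf.map (eqToHom hW.symm).op)).1 ?_⟩
    refine Eq.trans ?_ ht
    rw [morphismRestrict_app]
    show (p.app W' ≫ X.presheaf.map _ ≫ X.presheaf.map _).hom t = _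
    rw [← Functor.map_comp]
    refine (congrArg (fun q => (p.app W' ≫ X.presheaf.map q).hom t) (Subsingleton.elim _ (𝟙 _))).trans ?_
    rw [CategoryTheory.Functor.map_id, Category.comp_id]

end Groth.Agent.QuotLib
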