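import Groth.Agent.QuotLib.Basic

/-! Geometric points of a quotient by a finite group; rigidity. -/

set_option autoImplicit false
universe u
open CategoryTheory CategoryTheory.Limits AlgebraicGeometry

noncomputable section

namespace Groth.Agent.QuotLib

/-- Two `S`-morphisms from a connected scheme to an unramified separated one which agree at one point are equal. -/
theorem eq_of_eq_at_point {T X S : Scheme.{u}} (f : X ⟶ S) [FormallyUnramified f] [LocallyOfFiniteType f]
    [IsSeparated f] [PreconnectedSpace T] (a b : T ⟶ X) (hab : a ≫ f = b ≫ f) {W : Scheme.{u}} [Nonempty W]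
    (ξ : W ⟶ T) (hξ : ξ ≫ a = ξ ≫ b) : a = b := by
  let L : T ⟶ pullback f f := pullback.lift a b hab
  have hL : ξ ≫ L = (ξ ≫ a) ≫ pullback.diagonal f := by
    apply pullback.hom_ext
    · rw [Category.assoc, Category.assoc, pullback.diagonal_fst, Category.comp_id]
      exact congrArg (ξ ≫ ·) (pullback.lift_fst a b hab)
    · rw [Category.assoc, Category.assoc, pullback.diagonal_snd, Category.comp_id]
      exact (congrArg (ξ ≫ ·) (pullback.lift_snd a b hab)).trans hξ.symm
  let j := pullback.fst L (pullback.diagonal f)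
  obtain ⟨w⟩ := ‹Nonempty W›
  have hne : (Set.range j).Nonempty :=
    ⟨_, (pullback.lift ξ (ξ ≫ a) hL) w, rfl⟩
  have hclopen : IsClopen (Set.range j) :=
    ⟨j.isClosedEmbedding.isClosed_range, j.isOpenEmbedding.isOpen_range⟩
  haveI : Surjective j := ⟨fun x => by
    have : x ∈ Set.range j := by rw [hclopen.eq_univ hne]; trivial
    exact this⟩
  haveI : IsIso j := isIso_iff_isOpenImmersion_and_epi_base j |>.2 ⟨inferInstance,
    (TopCat.epi_iff_surjective _).2 j.surjective⟩
  have hj : L = inv j ≫ pullback.snd _ _ ≫ pullback.diagonal f := by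
    rw [← pullback.condition, IsIso.inv_hom_id_assoc]
  calc a = L ≫ pullback.fst f f := (pullback.lift_fst a b hab).symm
    _ = L ≫ pullback.snd f f := by rw [hj]; simp
    _ = b := pullback.lift_snd a b hab

variable {X Y : Scheme.{u}} {G : Type u} [Group G] [Finite G] {ρ : G →* Aut X} {p : X ⟶ Y}

/-- The group acts transitively on the geometric points over a geometric point of the quotient. -/
theorem exists_comp_eq_point (hp : SGA1.IsQuot ρ p) {K : Type u} [Field K]
    (ξ ξ' : Spec (CommRingCat.of K) ⟶ X) (h : ξ ≫ p = ξ' ≫ p) : ∃ g : G, ξ ≫ (ρ g).hom = ξ' := by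
  haveI := hp.affine
  let t : Spec (CommRingCat.of K) := IsLocalRing.closedPoint K
  obtain ⟨_, ⟨V, hV, rfl⟩, hy, -⟩ :=
    Y.isBasis_affineOpens.exists_subset_of_mem_open (Set.mem_univ ((ξ ≫ p) t)) isOpen_univ
  have hU : IsAffineOpen (p ⁻¹ᵁ V) := hV.preimage p
  have hfac : ∀ η : Spec (CommRingCat.of K) ⟶ X, (η ≫ p) t ∈ V →
      ∃ φ : Γ(X, p ⁻¹ᵁ V) ⟶ CommRingCat.of K, Spec.map φ ≫ hU.fromSpec = η := by
    intro η hη
    have hr : Set.range η ⊆ Set.range hU.fromSpec := by
      rw [hU.range_fromSpec]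
      rintro _ ⟨s, rfl⟩
      rw [show s = t from Subsingleton.elim _ _]
      exact hη
    exact ⟨Spec.preimage (IsOpenImmersion.lift hU.fromSpec η hr), by rw [Spec.map_preimage, IsOpenImmersion.lift_fac]⟩
  obtain ⟨φ, rfl⟩ := hfac ξ hy
  obtain ⟨ψ, rfl⟩ := hfac ξ' (h ▸ hy)
  have hag : p.app V ≫ φ = p.app V ≫ ψ := by
    refine Spec.map_injective ?_
    rw [← cancel_mono hV.fromSpec, Spec.map_comp, Spec.map_comp, Category.assoc, Category.assoc,
      ← Scheme.Hom.appLE_eq_app, IsAffineOpen.SpecMap_appLE_fromSpec p hV hU]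
    simpa using h
  letI := algebra p V
  letI := action hp V
  haveI := isInvariant hp V
  obtain ⟨g, hg⟩ := exists_comp_smul_eq (A := Γ(Y, V)) (G := G) ψ.hom φ.hom fun a =>
    (congrArg (fun χ : _ ⟶ _ => CommRingCat.Hom.hom χ a) hag).symm
  refine ⟨g⁻¹, ?_⟩
  have e : (ρ g⁻¹).hom.appLE (p ⁻¹ᵁ V) (p ⁻¹ᵁ V) (SGA1.preimage_le_of_inv ρ p hp.inv g⁻¹ V) ≫ φ = ψ :=
    CommRingCat.hom_ext (RingHom.ext fun b => (hg b).symm)
  rw [← e, Spec.map_comp, Category.assoc, Category.assoc, IsAffineOpen.SpecMap_appLE_fromSpec (ρ g⁻¹).hom hU hU]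

end Groth.Agent.QuotLib
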