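import Groth.Agent.QuotLib.Geom

/-! Residue fields of a quotient by a finite group. -/

set_option autoImplicit false
universe u
open CategoryTheory CategoryTheory.Limits AlgebraicGeometry Opposite TopologicalSpace

noncomputable section

namespace Groth.Agent.QuotLib

variable {X Y : Scheme.{u}} {G : Type u} [Group G] [Finite G] {ρ : G →* Aut X} {p : X ⟶ Y}

theorem isIntegral_residueFieldMap (hp : SGA1.IsQuot ρ p) (x : X) : (p.residueFieldMap x).hom.IsIntegral := by
  haveI := hp.affine
  obtain ⟨_, ⟨V, hV, rfl⟩, hy, -⟩ :=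
    Y.isBasis_affineOpens.exists_subset_of_mem_open (Set.mem_univ (p x)) isOpen_univ
  have hU : IsAffineOpen (p ⁻¹ᵁ V) := hV.preimage p
  have hx : x ∈ p ⁻¹ᵁ V := hy
  letI := (p.residueFieldMap x).hom.toAlgebra
  have hev : ∀ b : Γ(X, p ⁻¹ᵁ V), IsIntegral (Y.residueField (p x)) ((X.evaluation _ x hx).hom b) := fun b => by
    obtain ⟨P, hmonic, hP⟩ := isIntegral_app hp V b
    refine ⟨P.map (Y.evaluation V (p x) hy).hom, hmonic.map _, ?_⟩
    rw [Polynomial.eval₂_map, show (algebraMap (Y.residueField (p x)) (X.residueField x)).comp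
      (Y.evaluation V (p x) hy).hom = (X.evaluation _ x hx).hom.comp (p.app V).hom from
      congrArg CommRingCat.Hom.hom (Scheme.evaluation_naturality p x hy), ← Polynomial.hom_eval₂, hP, map_zero]
  intro z
  obtain ⟨z, rfl⟩ := IsLocalRing.residue_surjective z
  letI := X.presheaf.algebra_section_stalk ⟨x, hx⟩
  haveI := hU.isLocalization_stalk ⟨x, hx⟩
  obtain ⟨⟨b, c⟩, hbc⟩ := IsLocalization.surj (hU.primeIdealOf ⟨x, hx⟩).asIdeal.primeCompl z
  have h := congrArg (IsLocalRing.residue (X.presheaf.stalk x)) hbc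
  rw [map_mul] at h
  have hc : IsLocalRing.residue (X.presheaf.stalk x) (algebraMap _ _ (c : Γ(X, p ⁻¹ᵁ V))) ≠ 0 :=
    ((IsLocalization.map_units (X.presheaf.stalk x) c).map _).ne_zero
  rw [(eq_mul_inv_iff_mul_eq₀ hc).2 h]
  exact (((hev b).isAlgebraic).mul ((hev c).isAlgebraic.inv)).isIntegral

/-- The stabilizer surjects onto the automorphisms of a residue field. -/
theorem exists_residueFieldMap_eq (hp : SGA1.IsQuot ρ p) (x : X) {K : Type u} [Field K]
    (φ ψ : X.residueField x ⟶ CommRingCat.of K) (h : p.residueFieldMap x ≫ φ = p.residueFieldMap x ≫ ψ) :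
    ∃ (g : G) (e : (ρ g).hom.base x = x),
      ψ = (X.residueFieldCongr e).inv ≫ (ρ g).hom.residueFieldMap x ≫ φ := by
  obtain ⟨g, hg⟩ := exists_comp_eq_point hp (Spec.map φ ≫ X.fromSpecResidueField x)
    (Spec.map ψ ≫ X.fromSpecResidueField x) (by
      simp only [Category.assoc, ← Scheme.Hom.SpecMap_residueFieldMap_fromSpecResidueField, ← Spec.map_comp_assoc, h])
  have e : (ρ g).hom.base x = x := by
    have := congrArg (fun k : _ ⟶ X => k.base (IsLocalRing.closedPoint K)) hg
    simpa using this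
  refine ⟨g, e, Spec.map_injective ?_⟩
  rw [← cancel_mono (X.fromSpecResidueField x), ← hg, Category.assoc,
    ← Scheme.Hom.SpecMap_residueFieldMap_fromSpecResidueField, Spec.map_comp, Spec.map_comp, Category.assoc,
    Category.assoc]
  congr 2
  exact (Iso.eq_inv_comp (Scheme.Spec.mapIso (X.residueFieldCongr e).op)).2
    (Scheme.residueFieldCongr_fromSpecResidueField e)

theorem normal_residueField (hp : SGA1.IsQuot ρ p) (x : X) :
    letI := (p.residueFieldMap x).hom.toAlgebra
    Normal (Y.residueField (p.base x)) (X.residueField x) := by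
  letI := (p.residueFieldMap x).hom.toAlgebra
  haveI : Algebra.IsIntegral (Y.residueField (p.base x)) (X.residueField x) :=
    ⟨fun z => isIntegral_residueFieldMap hp x z⟩
  let K := Y.residueField (p.base x)
  let L := X.residueField x
  let Ω := AlgebraicClosure (X.residueField x)
  haveI : IsAlgClosure (Y.residueField (p.base x)) Ω :=
    ⟨inferInstance, Algebra.IsAlgebraic.trans (Y.residueField (p.base x)) (X.residueField x) Ω⟩
  haveI : Normal (Y.residueField (p.base x)) Ω := IsAlgClosure.normal _ _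
  let ι : X.residueField x →ₐ[Y.residueField (p.base x)] Ω := IsScalarTower.toAlgHom _ _ _
  let eι : X.residueField x ≃ₐ[Y.residueField (p.base x)] ι.fieldRange := AlgEquiv.ofInjectiveField ι
  suffices hN : Normal (Y.residueField (p.base x)) ι.fieldRange from
    Normal.of_algEquiv eι.symm
  rw [IntermediateField.normal_iff_forall_fieldRange_le]
  intro σ
  rintro _ ⟨⟨_, z, rfl⟩, rfl⟩
  let φ : X.residueField x ⟶ CommRingCat.of Ω := CommRingCat.ofHom ι.toRingHom
  let ψ : X.residueField x ⟶ CommRingCat.of Ω :=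
    CommRingCat.ofHom (σ.toRingHom.comp eι.toAlgHom.toRingHom)
  have hag : p.residueFieldMap x ≫ φ = p.residueFieldMap x ≫ ψ := CommRingCat.hom_ext (RingHom.ext fun k => by
    show ι (algebraMap _ _ k) = σ (eι (algebraMap _ _ k))
    rw [AlgHom.commutes, AlgEquiv.commutes, AlgHom.commutes])
  obtain ⟨g, e, he⟩ := exists_residueFieldMap_eq hp x φ ψ hag
  exact ⟨((X.residueFieldCongr e).inv ≫ (ρ g).hom.residueFieldMap x).hom z,
    (congrArg (fun k : _ ⟶ CommRingCat.of Ω => k.hom z) he).symm⟩

end Groth.Agent.QuotLib
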